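import Mathlib.Algebra.Module.LocalizedModule.Exact
import Mathlib.RingTheory.Localization.Basic
import Mathlib.Algebra.Algebra.Bilinear
import Mathlib.Data.Fin.Parity
import Mathlib.Algebra.BigOperators.Fin
import Mathlib.Data.Fintype.BigOperators

/-!
# The Čech complex of a module with respect to a finite family of ring elements
-/

universe w u v

namespace Groth.Agent.KoszulCech

noncomputable section

variable {A : Type u} [CommRing A]

/-- localization at the powers of an element -/
abbrev L (g : A) (M : Type v) [AddCommGroup M] [Module A M] : Type (max u v) :=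
  LocalizedModule (Submonoid.powers g) M

section Res

variable {M N P : Type v} [AddCommGroup M] [Module A M] [AddCommGroup N] [Module A N]
  [AddCommGroup P] [Module A P]

/-- the canonical map `M → M_g` -/
def loc (g : A) (M : Type v) [AddCommGroup M] [Module A M] : M →ₗ[A] L g M :=
  LocalizedModule.mkLinearMap (Submonoid.powers g) M

instance isLocalizedModule_loc (g : A) (M : Type v) [AddCommGroup M] [Module A M] :
    IsLocalizedModule (Submonoid.powers g) (loc g M) :=
  inferInstanceAs (IsLocalizedModule _ (LocalizedModule.mkLinearMap (Submonoid.powers g) M))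

lemma isUnit_of_dvd {g g' : A} (h : g ∣ g') (M : Type v) [AddCommGroup M] [Module A M]
    (s : Submonoid.powers g) : IsUnit (algebraMap A (Module.End A (L g' M)) s) := by
  obtain ⟨n, hn⟩ := s.2
  obtain ⟨c, rfl⟩ := h
  have := IsLocalizedModule.map_units (S := Submonoid.powers (g * c)) (loc (g * c) M) ⟨_, n, rfl⟩
  simp only [mul_pow, map_mul] at this
  have hc : Commute (algebraMap A (Module.End A (L (g * c) M)) (g ^ n))
      (algebraMap A (Module.End A (L (g * c) M)) (c ^ n)) := Algebra.commutes' _ _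
  rw [← hn]
  exact (hc.isUnit_mul_iff.mp this).1

/-- restriction between localizations -/
def res {g g' : A} (h : g ∣ g') (M : Type v) [AddCommGroup M] [Module A M] : L g M →ₗ[A] L g' M :=
  IsLocalizedModule.lift (Submonoid.powers g) (loc g M) (loc g' M) (isUnit_of_dvd h M)

@[simp]
lemma res_loc {g g' : A} (h : g ∣ g') (m : M) : res h M (loc g M m) = loc g' M m :=
  IsLocalizedModule.lift_apply _ _ _ _ _

lemma ext_loc {g g' : A} (h : g ∣ g') {φ ψ : L g M →ₗ[A] L g' N}
    (e : ∀ m, φ (loc g M m) = ψ (loc g M m)) : φ = ψ :=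
  IsLocalizedModule.ext (Submonoid.powers g) (loc g M) (isUnit_of_dvd h N) (LinearMap.ext e)

lemma res_res {g g' g'' : A} (h : g ∣ g') (h' : g' ∣ g'') (x : L g M) :
    res h' M (res h M x) = res (h.trans h') M x :=
  congr($(ext_loc (h.trans h') (φ := (res h' M).comp (res h M)) (ψ := res (h.trans h') M)
    (fun m => by simp)) x)

/-- localization of a linear map -/
def lmap (g : A) (φ : M →ₗ[A] N) : L g M →ₗ[A] L g N :=
  IsLocalizedModule.map (Submonoid.powers g) (loc g M) (loc g N) φ

@[simp]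
lemma lmap_loc (g : A) (φ : M →ₗ[A] N) (m : M) : lmap g φ (loc g M m) = loc g N (φ m) :=
  IsLocalizedModule.map_apply _ _ _ _ _

lemma lmap_res {g g' : A} (h : g ∣ g') (φ : M →ₗ[A] N) (x : L g M) :
    lmap g' φ (res h M x) = res h N (lmap g φ x) :=
  congr($(ext_loc h (φ := (lmap g' φ).comp (res h M)) (ψ := (res h N).comp (lmap g φ))
    (fun m => by simp)) x)

lemma lmap_comp (g : A) (φ : M →ₗ[A] N) (ψ : N →ₗ[A] P) (x : L g M) :
    lmap g (ψ ∘ₗ φ) x = lmap g ψ (lmap g φ x) :=
  congr($(ext_loc (dvd_refl g) (φ := lmap g (ψ ∘ₗ φ)) (ψ := (lmap g ψ).comp (lmap g φ))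
    (fun m => by simp)) x)

lemma lmap_id (g : A) (x : L g M) : lmap g (LinearMap.id : M →ₗ[A] M) x = x :=
  congr($(ext_loc (dvd_refl g) (φ := lmap g (LinearMap.id : M →ₗ[A] M)) (ψ := LinearMap.id)
    (fun m => by simp)) x)

/-- multiplication by an element acting bijectively on `N` is bijective on localizations -/
lemma isUnit_of_bijective {c : A} (hc : Function.Bijective fun x : N => c • x) (g : A) :
    IsUnit (algebraMap A (Module.End A (L g N)) c) := by
  rw [Module.End.isUnit_iff]
  have e : (algebraMap A (Module.End A (L g N)) c : L g N →ₗ[A] L g N) = lmap g (LinearMap.lsmul A N c) :=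
    ext_loc (dvd_refl g) fun m => by simp [Module.algebraMap_end_apply]
  rw [e]
  exact ⟨IsLocalizedModule.map_injective _ _ _ _ hc.1, IsLocalizedModule.map_surjective _ _ _ _ hc.2⟩

lemma res_bijective {c : A} (hc : Function.Bijective fun x : N => c • x) {g g' : A} (h : g ∣ g')
    (e : g' = c * g) : Function.Bijective (res h N) := by
  have hu : ∀ s : Submonoid.powers g', IsUnit (algebraMap A (Module.End A (L g N)) s) := by
    rintro ⟨_, n, rfl⟩
    subst e
    simp only [mul_pow, map_mul]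
    refine IsUnit.mul ?_ (IsLocalizedModule.map_units (S := Submonoid.powers g) (loc g N) ⟨_, n, rfl⟩)
    rw [map_pow]
    exact (isUnit_of_bijective hc g).pow n
  let inv : L g' N →ₗ[A] L g N := IsLocalizedModule.lift (Submonoid.powers g') (loc g' N) (loc g N) hu
  have h1 : inv.comp (res h N) = LinearMap.id :=
    ext_loc (dvd_refl g) fun m => by simp [inv]
  have h2 : (res h N).comp inv = LinearMap.id :=
    ext_loc (dvd_refl g') fun m => by simp [inv]
  exact Function.bijective_iff_has_inverse.mpr ⟨inv, fun x => congr($h1 x), fun x => congr($h2 x)⟩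

lemma loc_bijective {g : A} (hg : Function.Bijective fun x : N => g • x) :
    Function.Bijective (loc g N) := by
  have : IsLocalizedModule (Submonoid.powers g) (LinearMap.id : N →ₗ[A] N) := {
    map_units := by
      rintro ⟨_, n, rfl⟩
      simp only [map_pow]
      refine IsUnit.pow n ?_
      rw [Module.End.isUnit_iff]
      exact hg
    surj := fun y => ⟨⟨y, 1⟩, by simp⟩
    exists_of_eq := fun h => ⟨1, by simpa using h⟩ }
  have e : loc g N = (IsLocalizedModule.linearEquiv (Submonoid.powers g)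
      (LinearMap.id : N →ₗ[A] N) (loc g N)).toLinearMap := LinearMap.ext fun x =>
    (IsLocalizedModule.linearEquiv_apply (S := Submonoid.powers g) (LinearMap.id : N →ₗ[A] N) (loc g N) x).symm
  rw [e]
  exact LinearEquiv.bijective _

lemma loc_eq_zero_iff (g : A) (m : M) : loc g M m = 0 ↔ ∃ k : ℕ, g ^ k • m = 0 := by
  rw [IsLocalizedModule.eq_zero_iff (Submonoid.powers g)]
  constructor
  · rintro ⟨⟨_, k, rfl⟩, hk⟩
    exact ⟨k, hk⟩
  · rintro ⟨k, hk⟩
    exact ⟨⟨_, k, rfl⟩, hk⟩

lemma subsingleton_L (g : A) (h : ∀ m : M, ∃ k : ℕ, g ^ k • m = 0) : Subsingleton (L g M) := by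
  refine subsingleton_of_forall_eq 0 fun x => ?_
  obtain ⟨⟨m, s⟩, rfl⟩ := IsLocalizedModule.mk'_surjective (Submonoid.powers g) (loc g M) x
  rw [Function.uncurry_apply_pair, IsLocalizedModule.mk'_eq_zero' (f := loc g M)]
  obtain ⟨k, hk⟩ := h m
  exact ⟨⟨_, k, rfl⟩, hk⟩

end Res

/-! ### Cochains -/

section Cochain

variable {ι : Type w} (f : ι → A)

/-- the product attached to a tuple -/
def tp {n : ℕ} (x : Fin n → ι) : A := ∏ a, f (x a)

lemma tp_dvd {n : ℕ} (x : Fin (n + 1) → ι) (j : Fin (n + 1)) : tp f (x ∘ j.succAbove) ∣ tp f x :=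
  ⟨f (x j), by rw [tp, tp, Fin.prod_univ_succAbove _ j, mul_comm]; rfl⟩

/-- Čech cochains of a module -/
abbrev C (q : ℕ) (M : Type v) [AddCommGroup M] [Module A M] : Type _ :=
  ∀ x : Fin (q + 1) → ι, L (tp f x) M

variable (M : Type v) [AddCommGroup M] [Module A M]

/-- Čech differential -/
def cdM (q : ℕ) : C f q M →ₗ[A] C f (q + 1) M :=
  LinearMap.pi fun x => ∑ j : Fin (q + 2), ((-1 : ℤ) ^ (j : ℕ)) •
    (res (tp_dvd f x j) M).comp (LinearMap.proj (x ∘ j.succAbove))

lemma cdM_apply (q : ℕ) (s : C f q M) (x : Fin (q + 2) → ι) :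
    cdM f M q s x = ∑ j : Fin (q + 2), ((-1 : ℤ) ^ (j : ℕ)) • res (tp_dvd f x j) M (s (x ∘ j.succAbove)) := by
  simp [cdM, LinearMap.pi_apply]

lemma res_congr {q : ℕ} (s : C f q M) {y y' : Fin (q + 1) → ι} (e : y = y') {g : A}
    (h : tp f y ∣ g) (h' : tp f y' ∣ g) : res h M (s y) = res h' M (s y') := by
  subst e; rfl

lemma cdM_cdM (q : ℕ) (s : C f q M) : cdM f M (q + 1) (cdM f M q s) = 0 := by
  funext x
  simp only [cdM_apply, map_sum, map_zsmul, res_res, Finset.smul_sum, smul_smul, Pi.zero_apply]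
  rw [← Finset.sum_product' (f := fun (k : Fin (q + 3)) (l : Fin (q + 2)) =>
    ((-1 : ℤ) ^ (k : ℕ) * (-1 : ℤ) ^ (l : ℕ)) •
      res ((tp_dvd f (x ∘ k.succAbove) l).trans (tp_dvd f x k)) M (s ((x ∘ k.succAbove) ∘ l.succAbove)))]
  refine Finset.sum_involution (fun p _ => (p.1.succAbove p.2, p.2.predAbove p.1)) ?_ ?_ ?_ ?_
  · rintro ⟨k, l⟩ -
    dsimp only
    rw [res_congr f M s (y := (x ∘ (k.succAbove l).succAbove) ∘ (l.predAbove k).succAbove)
      (y' := (x ∘ k.succAbove) ∘ l.succAbove)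
      (by funext i; simp [Fin.succAbove_succAbove_succAbove_predAbove]) _
      ((tp_dvd f (x ∘ k.succAbove) l).trans (tp_dvd f x k)),
      ← pow_add, ← pow_add, Fin.neg_one_pow_succAbove_add_predAbove]
    simp
  · rintro ⟨k, l⟩ - -
    exact fun h => Fin.succAbove_ne k l (congrArg Prod.fst h)
  · intro p _; simp
  · rintro ⟨k, l⟩ -
    simp [Fin.succAbove_succAbove_predAbove, Fin.predAbove_predAbove_succAbove]

/-- augmentation -/
def aug : M →ₗ[A] C f 0 M := LinearMap.pi fun x => loc (tp f x) M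

lemma cdM_aug (m : M) : cdM f M 0 (aug f M m) = 0 := by
  funext x
  simp [cdM_apply, aug, Fin.sum_univ_succ]

lemma tp_one (x : Fin 1 → ι) : tp f x = f (x 0) := by simp [tp]

lemma aug_eq_zero_iff (m : M) : aug f M m = 0 ↔ ∀ i, ∃ k : ℕ, f i ^ k • m = 0 := by
  constructor
  · intro h i
    have := (loc_eq_zero_iff _ m).mp (congrFun h fun _ => i)
    simpa [tp_one] using this
  · intro h
    funext x
    exact (loc_eq_zero_iff _ m).mpr (by simpa [tp_one] using h (x 0))

variable {M} {N P : Type v} [AddCommGroup N] [Module A N] [AddCommGroup P] [Module A P]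

/-- map on cochains -/
def cmapM (φ : M →ₗ[A] N) (q : ℕ) : C f q M →ₗ[A] C f q N :=
  LinearMap.pi fun x => (lmap (tp f x) φ).comp (LinearMap.proj x)

@[simp]
lemma cmapM_apply (φ : M →ₗ[A] N) (q : ℕ) (s : C f q M) (x : Fin (q + 1) → ι) :
    cmapM f φ q s x = lmap (tp f x) φ (s x) := rfl

lemma cdM_cmapM (φ : M →ₗ[A] N) (q : ℕ) (s : C f q M) :
    cdM f N q (cmapM f φ q s) = cmapM f φ (q + 1) (cdM f M q s) := by
  funext x
  simp [cdM_apply, lmap_res]

lemma cmapM_comp (φ : M →ₗ[A] N) (ψ : N →ₗ[A] P) (q : ℕ) (s : C f q M) :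
    cmapM f (ψ ∘ₗ φ) q s = cmapM f ψ q (cmapM f φ q s) :=
  funext fun _ => lmap_comp _ φ ψ _

lemma cmapM_aug (φ : M →ₗ[A] N) (m : M) : cmapM f φ 0 (aug f M m) = aug f N (φ m) := by
  funext x
  simp [aug]

lemma cmapM_injective (φ : M →ₗ[A] N) (h : Function.Injective φ) (q : ℕ) :
    Function.Injective (cmapM f φ q) := fun _ _ e =>
  funext fun x => IsLocalizedModule.map_injective _ _ _ _ h (congrFun e x)

lemma cmapM_surjective (φ : M →ₗ[A] N) (h : Function.Surjective φ) (q : ℕ) :
    Function.Surjective (cmapM f φ q) := fun t => by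
  choose s hs using fun x => IsLocalizedModule.map_surjective (Submonoid.powers (tp f x))
    (loc (tp f x) M) (loc (tp f x) N) φ h (t x)
  exact ⟨s, funext hs⟩

lemma cmapM_exact (φ : M →ₗ[A] N) (ψ : N →ₗ[A] P) (h : Function.Exact φ ψ) (q : ℕ) :
    Function.Exact (cmapM f φ q) (cmapM f ψ q) := by
  intro t
  have hx := fun x : Fin (q + 1) → ι => IsLocalizedModule.map_exact (Submonoid.powers (tp f x))
    (loc (tp f x) M) (loc (tp f x) N) (loc (tp f x) P) φ ψ h
  constructor
  · intro ht
    choose s hs using fun x => (hx x (t x)).mp (congrFun ht x)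
    exact ⟨s, funext hs⟩
  · rintro ⟨s, rfl⟩
    exact funext fun x => (hx x _).mpr ⟨s x, rfl⟩

/-- on a module on which some `f k` is bijective the Čech complex is exact -/
theorem exact_of_bijective (k : ι) (hk : Function.Bijective fun x : N => f k • x) (q : ℕ)
    (s : C f (q + 1) N) (hs : cdM f N (q + 1) s = 0) : ∃ t, cdM f N q t = s := by
  have hdvd : ∀ {m : ℕ} (y : Fin m → ι), tp f y ∣ tp f (Fin.cons k y : Fin (m + 1) → ι) := by
    intro m y
    exact ⟨f k, by simp [tp, Fin.prod_univ_succ, mul_comm]⟩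
  have hb : ∀ {m : ℕ} (y : Fin m → ι), Function.Bijective (res (hdvd y) N) := fun y =>
    res_bijective hk _ (by simp [tp, Fin.prod_univ_succ])
  choose t ht using fun y : Fin (q + 1) → ι => (hb y).2 (s (Fin.cons k y))
  refine ⟨t, funext fun x => (hb x).1 ?_⟩
  have h0 := congrFun hs (Fin.cons k x)
  rw [cdM_apply, Fin.sum_univ_succ, Pi.zero_apply, Fin.val_zero, pow_zero, one_smul] at h0
  rw [res_congr f N s (y' := x) (by funext a; simp) _ (hdvd x)] at h0
  rw [eq_neg_of_add_eq_zero_left h0, cdM_apply, map_sum, ← Finset.sum_neg_distrib]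
  refine Finset.sum_congr rfl fun j _ => ?_
  rw [map_zsmul, Fin.val_succ, ← neg_zsmul, pow_succ,
    show -((-1 : ℤ) ^ (j : ℕ) * -1) = (-1 : ℤ) ^ (j : ℕ) by ring]
  congr 1
  have he : (Fin.cons k x : Fin (q + 3) → ι) ∘ j.succ.succAbove = Fin.cons k (x ∘ j.succAbove) :=
    Fin.cons_comp_succ_succAbove ..
  have hd : tp f (Fin.cons k (x ∘ j.succAbove) : Fin (q + 2) → ι) ∣ tp f (Fin.cons k x : Fin (q + 3) → ι) := by
    have := tp_dvd f (Fin.cons k x : Fin (q + 3) → ι) j.succ
    rwa [he] at this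
  rw [res_res, ← res_res (hdvd (x ∘ j.succAbove)) hd, ht]
  exact res_congr f N s he.symm _ _

/-- the augmentation is onto the cocycles when some `f k` acts bijectively -/
theorem aug_bijective_of_bijective (k : ι) (hk : Function.Bijective fun x : N => f k • x) :
    Function.Injective (aug f N) ∧ ∀ z, cdM f N 0 z = 0 → ∃ m, aug f N m = z := by
  have hloc : Function.Bijective (loc (tp f fun _ : Fin 1 => k) N) :=
    loc_bijective (by simpa [tp_one] using hk)
  refine ⟨fun a b h => hloc.1 (congrFun h _), fun z hz => ?_⟩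
  obtain ⟨m, hm⟩ := hloc.2 (z fun _ => k)
  refine ⟨m, funext fun x => ?_⟩
  have h : tp f x ∣ tp f (Fin.cons k x : Fin 2 → ι) := ⟨f k, by simp [tp, Fin.prod_univ_succ, mul_comm]⟩
  refine (res_bijective hk h (by simp [tp, Fin.prod_univ_succ])).1 ?_
  have h0 := congrFun hz (Fin.cons k x)
  rw [cdM_apply, Fin.sum_univ_two, Pi.zero_apply, Fin.val_zero, pow_zero, one_smul, Fin.val_one,
    pow_one, neg_one_zsmul, add_neg_eq_zero,
    res_congr f N z (y' := x) (by funext a; fin_cases a; simp) _ h] at h0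
  rw [h0, res_congr f N z (y' := fun _ => k) (by funext a; fin_cases a; simp [Fin.succAbove]) _
    ⟨f (x 0), by simp [tp, Fin.prod_univ_succ]⟩, ← hm, res_loc]
  exact res_loc h m

end Cochain

end

end Groth.Agent.KoszulCech
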