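import Groth.Agent.KoszulCech.Lim
import Groth.Agent.KoszulCech.Cech
import Mathlib.LinearAlgebra.Quotient.Basic
import Mathlib.Algebra.Category.ModuleCat.Basic

/-!
# Algebraic Čech cohomology is direct-limit Koszul cohomology
-/

universe u v

open CategoryTheory Limits

attribute [local instance] HasDerivedCategory.standard

namespace Groth.Agent.KoszulCech

noncomputable section

variable {A : Type u} [CommRing A]

/-! ### Linear algebra -/

/-- two surjections with the same kernel have isomorphic targets -/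
theorem nonempty_equiv_of_ker_eq {W X Y : Type*} [AddCommGroup W] [Module A W] [AddCommGroup X]
    [Module A X] [AddCommGroup Y] [Module A Y] (a : W →ₗ[A] X) (b : W →ₗ[A] Y)
    (ha : Function.Surjective a) (hb : Function.Surjective b) (h : LinearMap.ker a = LinearMap.ker b) :
    Nonempty (X ≃ₗ[A] Y) :=
  ⟨(a.quotKerEquivOfSurjective ha).symm.trans
    ((Submodule.quotEquivOfEq _ _ h).trans (b.quotKerEquivOfSurjective hb))⟩

/-- homology of `M₀ → M₁ → M₂` at the middle, as a quotient -/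
abbrev HomAt {M₀ M₁ M₂ : Type*} [AddCommGroup M₀] [Module A M₀] [AddCommGroup M₁] [Module A M₁]
    [AddCommGroup M₂] [Module A M₂] (d₀ : M₀ →ₗ[A] M₁) (d₁ : M₁ →ₗ[A] M₂) : Type _ :=
  LinearMap.ker d₁ ⧸ (LinearMap.range d₀).comap (LinearMap.ker d₁).subtype

/-- connecting isomorphism for three-term complexes with middle exact -/
theorem nonempty_snake {M₀ M₁ M₂ P₀ P₁ P₂ Q₀ Q₁ : Type*}
    [AddCommGroup M₀] [Module A M₀] [AddCommGroup M₁] [Module A M₁] [AddCommGroup M₂] [Module A M₂]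
    [AddCommGroup P₀] [Module A P₀] [AddCommGroup P₁] [Module A P₁] [AddCommGroup P₂] [Module A P₂]
    [AddCommGroup Q₀] [Module A Q₀] [AddCommGroup Q₁] [Module A Q₁]
    (dM₀ : M₀ →ₗ[A] M₁) (dM₁ : M₁ →ₗ[A] M₂) (dP₀ : P₀ →ₗ[A] P₁) (dP₁ : P₁ →ₗ[A] P₂)
    (dQ₀ : Q₀ →ₗ[A] Q₁) (i₀ : M₀ →ₗ[A] P₀) (i₁ : M₁ →ₗ[A] P₁) (i₂ : M₂ →ₗ[A] P₂)
    (π₀ : P₀ →ₗ[A] Q₀) (π₁ : P₁ →ₗ[A] Q₁)
    (ci₀ : ∀ x, dP₀ (i₀ x) = i₁ (dM₀ x)) (ci₁ : ∀ x, dP₁ (i₁ x) = i₂ (dM₁ x))
    (cπ : ∀ x, dQ₀ (π₀ x) = π₁ (dP₀ x)) (hdd : ∀ x, dP₁ (dP₀ x) = 0)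
    (e₀ : Function.Exact i₀ π₀) (e₁ : Function.Exact i₁ π₁)
    (hi₁ : Function.Injective i₁) (hi₂ : Function.Injective i₂) (hπ₀ : Function.Surjective π₀)
    (hP : ∀ x, dP₁ x = 0 → ∃ y, dP₀ y = x) :
    Nonempty ((LinearMap.ker dQ₀ ⧸ ((LinearMap.ker dP₀).map π₀).comap (LinearMap.ker dQ₀).subtype)
      ≃ₗ[A] HomAt dM₀ dM₁) := by
  let W : Submodule A P₀ := (LinearMap.ker dQ₀).comap π₀
  have hW : ∀ w : W, dP₀ w.1 ∈ LinearMap.range i₁ := fun w => (e₁ _).mp ((cπ _).symm.trans w.2)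
  let e := LinearEquiv.ofInjective i₁ hi₁
  let m : W →ₗ[A] M₁ := e.symm.toLinearMap ∘ₗ (dP₀.domRestrict W).codRestrict _ hW
  have hm : ∀ w, i₁ (m w) = dP₀ w.1 := fun w =>
    congrArg Subtype.val (e.apply_symm_apply ⟨dP₀ w.1, hW w⟩)
  have hm' : ∀ w, m w ∈ LinearMap.ker dM₁ := fun w => hi₂ (by
    rw [← ci₁, hm, hdd, map_zero])
  let a : W →ₗ[A] LinearMap.ker dQ₀ :=
    { toFun := fun w => ⟨π₀ w.1, w.2⟩
      map_add' := fun v w => Subtype.ext (map_add π₀ v.1 w.1)
      map_smul' := fun c w => Subtype.ext (map_smul π₀ c w.1) }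
  have ha : ∀ w, (a w : Q₀) = π₀ w.1 := fun _ => rfl
  refine nonempty_equiv_of_ker_eq
    ((Submodule.mkQ _).comp a)
    ((Submodule.mkQ _).comp (m.codRestrict (LinearMap.ker dM₁) hm')) ?_ ?_ ?_
  · intro x
    obtain ⟨⟨q, hq⟩, rfl⟩ := Submodule.mkQ_surjective _ x
    obtain ⟨p, rfl⟩ := hπ₀ q
    exact ⟨⟨p, hq⟩, rfl⟩
  · intro x
    obtain ⟨⟨z, hz⟩, rfl⟩ := Submodule.mkQ_surjective _ x
    obtain ⟨p, hp⟩ := hP (i₁ z) (by rw [ci₁, LinearMap.mem_ker.mp hz, map_zero])
    refine ⟨⟨p, ?_⟩, congrArg _ (Subtype.ext (hi₁ ((hm _).trans hp)))⟩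
    change dQ₀ (π₀ p) = 0
    rw [cπ, hp]
    exact (e₁ _).mpr ⟨z, rfl⟩
  · ext w
    simp only [LinearMap.mem_ker, LinearMap.comp_apply, Submodule.mkQ_apply,
      Submodule.Quotient.mk_eq_zero, Submodule.mem_comap, Submodule.subtype_apply,
      LinearMap.codRestrict_apply, Submodule.mem_map, LinearMap.mem_range, ha]
    constructor
    · rintro ⟨p', hp', hp''⟩
      obtain ⟨y, hy⟩ := (e₀ (w.1 - p')).mp (by rw [map_sub, hp'', sub_self])
      refine ⟨y, hi₁ ?_⟩
      rw [← ci₀, hy, map_sub, hp', sub_zero, hm]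
    · rintro ⟨y, hy⟩
      refine ⟨w.1 - i₀ y, ?_, ?_⟩
      · rw [map_sub, ci₀, hy, hm, sub_self]
      · rw [map_sub, e₀.apply_apply_eq_zero, sub_zero]

/-- bijective maps of three-term complexes induce isomorphisms in homology -/
theorem nonempty_homAt_equiv {M₀ M₁ M₂ N₀ N₁ N₂ : Type*}
    [AddCommGroup M₀] [Module A M₀] [AddCommGroup M₁] [Module A M₁] [AddCommGroup M₂] [Module A M₂]
    [AddCommGroup N₀] [Module A N₀] [AddCommGroup N₁] [Module A N₁] [AddCommGroup N₂] [Module A N₂]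
    (d₀ : M₀ →ₗ[A] M₁) (d₁ : M₁ →ₗ[A] M₂) (d₀' : N₀ →ₗ[A] N₁) (d₁' : N₁ →ₗ[A] N₂)
    (a₀ : M₀ →ₗ[A] N₀) (a₁ : M₁ →ₗ[A] N₁) (a₂ : M₂ →ₗ[A] N₂)
    (c₀ : ∀ x, d₀' (a₀ x) = a₁ (d₀ x)) (c₁ : ∀ x, d₁' (a₁ x) = a₂ (d₁ x))
    (h₀ : Function.Surjective a₀) (h₁ : Function.Bijective a₁) (h₂ : Function.Injective a₂) :
    Nonempty (HomAt d₀ d₁ ≃ₗ[A] HomAt d₀' d₁') := by
  refine nonempty_equiv_of_ker_eq (Submodule.mkQ _)
    ((Submodule.mkQ _).comp ((a₁.domRestrict (LinearMap.ker d₁)).codRestrict (LinearMap.ker d₁')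
      fun z => by rw [LinearMap.mem_ker, LinearMap.domRestrict_apply, c₁, LinearMap.mem_ker.mp z.2, map_zero]))
    (Submodule.mkQ_surjective _) ?_ ?_
  · intro x
    obtain ⟨⟨z, hz⟩, rfl⟩ := Submodule.mkQ_surjective _ x
    obtain ⟨y, rfl⟩ := h₁.2 z
    exact ⟨⟨y, h₂ (by rw [← c₁, LinearMap.mem_ker.mp hz, map_zero])⟩, rfl⟩
  · ext z
    simp only [LinearMap.mem_ker, LinearMap.comp_apply, Submodule.mkQ_apply,
      Submodule.Quotient.mk_eq_zero, Submodule.mem_comap, Submodule.subtype_apply,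
      LinearMap.codRestrict_apply, LinearMap.domRestrict_apply, LinearMap.mem_range]
    constructor
    · rintro ⟨y, hy⟩
      exact ⟨a₀ y, by rw [c₀, hy]⟩
    · rintro ⟨y, hy⟩
      obtain ⟨y, rfl⟩ := h₀ y
      exact ⟨y, h₁.1 (by rw [← c₀, hy])⟩

/-! ### Setup: torsion quotient and the acyclic envelope -/

variable {ι : Type u} (f : ι → A) (fs : List A) (M : Type u) [AddCommGroup M] [Module A M]

/-- Čech cohomology in degree `q + 1` -/
abbrev H1 (q : ℕ) : Type u := HomAt (cdM f M q) (cdM f M (q + 1))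

/-- cokernel of the augmentation -/
abbrev Caug : Type u := HomAt (aug f M) (cdM f M 0)

/-- kernel of the augmentation -/
lemma mem_ker_aug_iff (hf : ∀ a, a ∈ fs ↔ ∃ i, f i = a) (x : M) :
    x ∈ LinearMap.ker (aug f M) ↔ x ∈ tors fs M := by
  rw [LinearMap.mem_ker, aug_eq_zero_iff]
  constructor
  · intro h a ha
    obtain ⟨i, rfl⟩ := (hf a).mp ha
    exact h i
  · intro h i
    exact h _ ((hf _).mpr ⟨i, rfl⟩)

/-- product of the localizations -/
abbrev Env : Type u := ∀ i, L (f i) M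

/-- canonical map to the product of localizations -/
def toEnv : M →ₗ[A] Env f M := LinearMap.pi fun i => loc (f i) M

lemma bijective_smul_L (i : ι) : Function.Bijective fun x : L (f i) M => f i • x :=
  (Module.End.isUnit_iff _).mp
    (IsLocalizedModule.map_units (S := Submonoid.powers (f i)) (loc (f i) M) ⟨_, 1, pow_one _⟩)

section Env

variable [Fintype ι] [DecidableEq ι]

lemma sum_single (y : Env f M) : ∑ i, LinearMap.single A (fun i => L (f i) M) i (y i) = y := by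
  funext j
  simp [Finset.sum_apply]

lemma lmap_sum {N N' : Type u} [AddCommGroup N] [Module A N] [AddCommGroup N'] [Module A N'] (g : A)
    {κ : Type*} (s : Finset κ) (φ : κ → (N →ₗ[A] N')) (x : L g N) :
    lmap g (∑ k ∈ s, φ k) x = ∑ k ∈ s, lmap g (φ k) x := by
  rw [lmap, map_sum, LinearMap.sum_apply]
  rfl

lemma cmapM_sum_eq (q : ℕ) (s : C f q (Env f M)) :
    ∑ i, cmapM f (LinearMap.single A (fun i => L (f i) M) i) q (cmapM f (LinearMap.proj i) q s) = s := by
  funext x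
  simp only [Finset.sum_apply, cmapM_apply, ← lmap_comp]
  rw [← lmap_sum]
  have : (∑ i, (LinearMap.single A (fun i => L (f i) M) i) ∘ₗ LinearMap.proj i) =
      (LinearMap.id : Env f M →ₗ[A] Env f M) := LinearMap.ext fun y => by
    rw [LinearMap.sum_apply]
    exact sum_single f M y
  rw [this, lmap_id]

lemma env_exact (q : ℕ) (s : C f (q + 1) (Env f M)) (hs : cdM f (Env f M) (q + 1) s = 0) :
    ∃ t, cdM f (Env f M) q t = s := by
  choose t ht using fun i => exact_of_bijective f i (bijective_smul_L f M i) q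
    (cmapM f (LinearMap.proj i) (q + 1) s) (by rw [cdM_cmapM, hs, map_zero])
  refine ⟨∑ i, cmapM f (LinearMap.single A (fun i => L (f i) M) i) q (t i), ?_⟩
  simp only [map_sum, cdM_cmapM, ht]
  exact cmapM_sum_eq f M (q + 1) s

lemma env_exact_zero (z : C f 0 (Env f M)) (hz : cdM f (Env f M) 0 z = 0) :
    ∃ m, aug f (Env f M) m = z := by
  choose m hm using fun i => (aug_bijective_of_bijective f i (bijective_smul_L f M i)).2
    (cmapM f (LinearMap.proj i) 0 z) (by rw [cdM_cmapM, hz, map_zero])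
  refine ⟨∑ i, LinearMap.single A (fun i => L (f i) M) i (m i), ?_⟩
  simp only [map_sum, ← cmapM_aug, hm]
  exact cmapM_sum_eq f M 0 z

lemma env_ker_zero : LinearMap.ker (cdM f (Env f M) 0) = LinearMap.range (aug f (Env f M)) :=
  le_antisymm (fun z hz => env_exact_zero f M z hz) (by
    rintro _ ⟨m, rfl⟩
    exact cdM_aug f _ m)

lemma sum_apply_eq_zero {κ : Type u} [Fintype κ] {X Y : ModuleCat.{u} A} (φ : κ → (X ⟶ Y)) (x : X)
    (h : ∀ i, φ i x = 0) : (∑ i, φ i) x = 0 := by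
  exact (map_sum (AddMonoidHom.mk' (fun g : X ⟶ Y => g x) fun _ _ => rfl) φ Finset.univ).trans
    (Finset.sum_eq_zero fun i _ => h i)

lemma env_acyclic (hf : ∀ a, a ∈ fs ↔ ∃ i, f i = a) (n : ℕ) (k : ℤ) :
    Subsingleton ((CohIII.koszulCx (ModuleCat.of A (Env f M)) (fs.map (· ^ n))).homology k) := by
  let G := kosFun (A := A) (fs.map (· ^ n)) ⋙ HomologicalComplex.homologyFunctor _ _ k
  refine subsingleton_of_forall_eq (α := G.obj (ModuleCat.of A (Env f M))) 0 fun x => ?_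
  have hid : ∑ i, (ModuleCat.ofHom (LinearMap.proj (φ := fun i => L (f i) M) i) ≫
      ModuleCat.ofHom (LinearMap.single A (fun i => L (f i) M) i)) = 𝟙 (ModuleCat.of A (Env f M)) := by
    refine ModuleCat.hom_ext (LinearMap.ext fun y => ?_)
    rw [ModuleCat.hom_sum, LinearMap.sum_apply]
    exact sum_single f M y
  have h := congrArg G.map hid
  rw [Functor.map_sum, G.map_id] at h
  refine (congr($h.symm x)).trans ?_
  refine sum_apply_eq_zero _ _ fun i => ?_
  have hz : Subsingleton ((CohIII.koszulCx (ModuleCat.of A (L (f i) M)) (fs.map (· ^ n))).homology k) :=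
    subsingleton_of_bijective (ModuleCat.of A (L (f i) M)) _ (f i ^ n) (List.mem_map_of_mem (f := fun a : A => a ^ n) ((hf (f i)).mpr ⟨i, rfl⟩)) (by
      have : IsUnit (algebraMap A (Module.End A (L (f i) M)) (f i ^ n)) :=
        IsLocalizedModule.map_units (S := Submonoid.powers (f i)) (loc (f i) M) ⟨_, n, rfl⟩
      exact (Module.End.isUnit_iff _).mp this) k
  rw [G.map_comp]
  exact (congrArg (G.map (ModuleCat.ofHom (LinearMap.single A (fun i => L (f i) M) i))).hom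
    (Subsingleton.elim (α := (CohIII.koszulCx (ModuleCat.of A (L (f i) M)) (fs.map (· ^ n))).homology k)
      _ 0)).trans (map_zero _)

end Env

variable {f fs M}

lemma tors_quot_eq_bot : tors fs (M ⧸ tors fs M) = ⊥ := by
  refine eq_bot_iff.mpr fun y hy => ?_
  obtain ⟨x, rfl⟩ := Submodule.mkQ_surjective _ y
  refine (Submodule.Quotient.mk_eq_zero _).mpr fun a ha => ?_
  obtain ⟨k, hk⟩ := hy a ha
  rw [Submodule.mkQ_apply, ← Submodule.Quotient.mk_smul, Submodule.Quotient.mk_eq_zero] at hk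
  obtain ⟨l, hl⟩ := hk a ha
  exact ⟨l + k, by rw [pow_add, mul_smul, hl]⟩

variable (f fs M) (hf : ∀ a, a ∈ fs ↔ ∃ i, f i = a)

include hf

lemma cmapM_mkQ_bijective (q : ℕ) : Function.Bijective (cmapM f (tors fs M).mkQ q) := by
  refine ⟨fun s t h => ?_, cmapM_surjective f _ (Submodule.mkQ_surjective _) q⟩
  rw [← sub_eq_zero] at h ⊢
  rw [← map_sub] at h
  obtain ⟨r, hr⟩ := (cmapM_exact f (tors fs M).subtype (tors fs M).mkQ
    (LinearMap.exact_subtype_mkQ _) q _).mp h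
  have : ∀ x : Fin (q + 1) → ι, Subsingleton (L (tp f x) (tors fs M)) := fun x =>
    subsingleton_L _ fun m => by
      obtain ⟨k, hk⟩ := m.2 _ ((hf _).mpr ⟨x 0, rfl⟩)
      obtain ⟨c, hc⟩ : f (x 0) ∣ tp f x := Finset.dvd_prod_of_mem _ (Finset.mem_univ _)
      refine ⟨k, Subtype.ext ?_⟩
      rw [Submodule.coe_smul, hc, mul_pow, mul_comm, mul_smul, hk, smul_zero]
      rfl
  rw [← hr, Subsingleton.elim r 0, map_zero]

lemma nonempty_H1_quot (q : ℕ) : Nonempty (H1 f M q ≃ₗ[A] H1 f (M ⧸ tors fs M) q) :=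
  nonempty_homAt_equiv _ _ _ _ (cmapM f (tors fs M).mkQ q) (cmapM f (tors fs M).mkQ (q + 1))
    (cmapM f (tors fs M).mkQ (q + 2)) (cdM_cmapM f _ q) (cdM_cmapM f _ (q + 1))
    (cmapM_mkQ_bijective f fs M hf q).2 (cmapM_mkQ_bijective f fs M hf _)
    (cmapM_mkQ_bijective f fs M hf _).1

lemma nonempty_Caug_quot : Nonempty (Caug f M ≃ₗ[A] Caug f (M ⧸ tors fs M)) :=
  nonempty_homAt_equiv _ _ _ _ (tors fs M).mkQ (cmapM f (tors fs M).mkQ 0)
    (cmapM f (tors fs M).mkQ 1) (fun x => (cmapM_aug f _ x).symm) (cdM_cmapM f _ 0)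
    (Submodule.mkQ_surjective _) (cmapM_mkQ_bijective f fs M hf _)
    (cmapM_mkQ_bijective f fs M hf _).1

omit hf

/-- killing torsion does not change the higher limit Koszul cohomology -/
lemma nonempty_limH_quot (i : ℤ) (hi : i ≠ -(fs.length : ℤ)) (hi' : i + 1 ≠ -(fs.length : ℤ)) :
    Nonempty (limH fs (ModuleCat.of A M) i ≃ₗ[A] limH fs (ModuleCat.of A (M ⧸ tors fs M)) i) := by
  let S : ShortComplex (ModuleCat.{u} A) :=
    ShortComplex.mk (ModuleCat.ofHom (tors fs M).subtype) (ModuleCat.ofHom (tors fs M).mkQ)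
      (by ext x; exact (Submodule.Quotient.mk_eq_zero _).mpr x.2)
  have hS : S.ShortExact :=
    { exact := (ShortComplex.ShortExact.moduleCat_exact_iff_function_exact _).mpr
        (LinearMap.exact_subtype_mkQ _)
      mono_f := (ModuleCat.mono_iff_injective _).mpr Subtype.val_injective
      epi_g := (ModuleCat.epi_iff_surjective _).mpr (Submodule.mkQ_surjective _) }
  exact ⟨LinearEquiv.ofBijective _ (limMap_bijective_of_torsion fs hS (fun a ha x => by
    obtain ⟨k, hk⟩ := x.2 a ha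
    exact ⟨k, Subtype.ext hk⟩) i hi hi')⟩

include hf

/-- connecting isomorphism to the cokernel of `M → Env` for torsion free `M` -/
lemma nonempty_limH_coker [Fintype ι] [DecidableEq ι] (hM : tors fs M = ⊥) (i j : ℤ) (hij : i + 1 = j) :
    Nonempty (limH fs (ModuleCat.of A (Env f M ⧸ LinearMap.range (toEnv f M))) i ≃ₗ[A]
      limH fs (ModuleCat.of A M) j) := by
  let S : ShortComplex (ModuleCat.{u} A) :=
    ShortComplex.mk (ModuleCat.ofHom (toEnv f M)) (ModuleCat.ofHom (LinearMap.range (toEnv f M)).mkQ)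
      (by ext x; exact (Submodule.Quotient.mk_eq_zero _).mpr ⟨x, rfl⟩)
  have hinj : Function.Injective (toEnv f M) := by
    rw [injective_iff_map_eq_zero]
    intro x hx
    have : x ∈ tors fs M := fun a ha => by
      obtain ⟨i, rfl⟩ := (hf a).mp ha
      exact (loc_eq_zero_iff _ x).mp (congrFun hx i)
    rwa [hM, Submodule.mem_bot] at this
  have hS : S.ShortExact :=
    { exact := (ShortComplex.ShortExact.moduleCat_exact_iff_function_exact _).mpr
        (LinearMap.exact_map_mkQ_range _)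
      mono_f := (ModuleCat.mono_iff_injective _).mpr hinj
      epi_g := (ModuleCat.epi_iff_surjective _).mpr (Submodule.mkQ_surjective _) }
  exact limH_δ_equiv fs hS i j hij (env_acyclic f fs M hf)

lemma toEnv_injective (hM : tors fs M = ⊥) : Function.Injective (toEnv f M) := by
  rw [injective_iff_map_eq_zero]
  intro x hx
  have : x ∈ tors fs M := fun a ha => by
    obtain ⟨i, rfl⟩ := (hf a).mp ha
    exact (loc_eq_zero_iff _ x).mp (congrFun hx i)
  rwa [hM, Submodule.mem_bot] at this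

variable [Fintype ι] [DecidableEq ι]

/-- the cokernel of the augmentation is the first limit Koszul cohomology -/
theorem nonempty_Caug_equiv :
    Nonempty (Caug f M ≃ₗ[A] limH fs (ModuleCat.of A M) (1 - (fs.length : ℤ))) := by
  obtain ⟨e₁⟩ := nonempty_Caug_quot f fs M hf
  obtain ⟨e₂⟩ := nonempty_limH_quot fs M (1 - (fs.length : ℤ)) (by omega) (by omega)
  have hM' : tors fs (M ⧸ tors fs M) = ⊥ := tors_quot_eq_bot
  set N := M ⧸ tors fs M
  let π := (LinearMap.range (toEnv f N)).mkQ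
  obtain ⟨e₃⟩ := nonempty_limH_coker f fs N hf hM' (-(fs.length : ℤ)) (1 - (fs.length : ℤ)) (by omega)
  obtain ⟨e₄⟩ := limH_bot fs (ModuleCat.of A (Env f N ⧸ LinearMap.range (toEnv f N))) (-(fs.length : ℤ)) rfl
  obtain ⟨e₅⟩ := nonempty_snake (aug f N) (cdM f N 0) (aug f (Env f N)) (cdM f (Env f N) 0)
    (aug f (Env f N ⧸ LinearMap.range (toEnv f N))) (toEnv f N) (cmapM f (toEnv f N) 0)
    (cmapM f (toEnv f N) 1) π (cmapM f π 0) (fun x => (cmapM_aug f _ x).symm)
    (cdM_cmapM f _ 0) (fun x => (cmapM_aug f _ x).symm) (cdM_aug f _)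
    (LinearMap.exact_map_mkQ_range _) (cmapM_exact f _ _ (LinearMap.exact_map_mkQ_range _) 0)
    (cmapM_injective f _ (toEnv_injective f fs N hf hM') 0)
    (cmapM_injective f _ (toEnv_injective f fs N hf hM') 1)
    (Submodule.mkQ_surjective _) (env_exact_zero f N)
  have hk : LinearMap.ker (aug f (Env f N)) = ⊥ := by
    refine eq_bot_iff.mpr fun p hp => funext fun i => ?_
    have h := congrArg (cmapM f (LinearMap.proj i) 0) (LinearMap.mem_ker.mp hp)
    rw [map_zero, cmapM_aug] at h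
    exact (aug_bijective_of_bijective f i (bijective_smul_L f N i)).1 (h.trans (map_zero _).symm)
  let t : LinearMap.ker (aug f (Env f N ⧸ LinearMap.range (toEnv f N))) ≃ₗ[A]
      tors fs (Env f N ⧸ LinearMap.range (toEnv f N)) :=
    LinearEquiv.ofEq _ _ (Submodule.ext (mem_ker_aug_iff f fs _ hf))
  let u : tors fs (Env f N ⧸ LinearMap.range (toEnv f N)) ≃ₗ[A]
      limH fs (ModuleCat.of A M) (1 - (fs.length : ℤ)) := (e₄.symm.trans e₃).trans e₂.symm
  refine ⟨e₁.trans (e₅.symm.trans ((Submodule.quotEquivOfEqBot _ ?_).trans (t.trans u)))⟩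
  rw [hk, Submodule.map_bot, Submodule.comap_bot]
  exact Submodule.ker_subtype _

omit hf

omit [Fintype ι] [DecidableEq ι] in
lemma range_cdM_eq {N N' : Type u} [AddCommGroup N] [Module A N] [AddCommGroup N'] [Module A N']
    (π : N →ₗ[A] N') (hπ : Function.Surjective π) (q : ℕ) :
    (LinearMap.range (cdM f N q)).map (cmapM f π (q + 1)) = LinearMap.range (cdM f N' q) := by
  rw [← LinearMap.range_comp, show (cmapM f π (q + 1)).comp (cdM f N q) =
    (cdM f N' q).comp (cmapM f π q) from LinearMap.ext fun s => (cdM_cmapM f π q s).symm,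
    LinearMap.range_comp, LinearMap.range_eq_top.mpr (cmapM_surjective f π hπ q), Submodule.map_top]

include hf

/-- Čech cohomology is limit Koszul cohomology -/
theorem nonempty_H1_equiv (q : ℕ) : ∀ (M : Type u) [AddCommGroup M] [Module A M],
    Nonempty (H1 f M q ≃ₗ[A] limH fs (ModuleCat.of A M) ((q : ℤ) + 2 - fs.length)) := by
  induction q with
  | zero =>
    intro M _ _
    obtain ⟨e₁⟩ := nonempty_H1_quot f fs M hf 0
    obtain ⟨e₂⟩ := nonempty_limH_quot fs M (((0 : ℕ) : ℤ) + 2 - fs.length) (by omega) (by omega)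
    have hM' : tors fs (M ⧸ tors fs M) = ⊥ := tors_quot_eq_bot
    set N := M ⧸ tors fs M
    let π := (LinearMap.range (toEnv f N)).mkQ
    obtain ⟨e₃⟩ := nonempty_limH_coker f fs N hf hM' (1 - (fs.length : ℤ))
      (((0 : ℕ) : ℤ) + 2 - fs.length) (by omega)
    obtain ⟨e₄⟩ := nonempty_Caug_equiv f fs (Env f N ⧸ LinearMap.range (toEnv f N)) hf
    obtain ⟨e₅⟩ := nonempty_snake (cdM f N 0) (cdM f N 1) (cdM f (Env f N) 0) (cdM f (Env f N) 1)
      (cdM f (Env f N ⧸ LinearMap.range (toEnv f N)) 0) (cmapM f (toEnv f N) 0) (cmapM f (toEnv f N) 1)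
      (cmapM f (toEnv f N) 2) (cmapM f π 0) (cmapM f π 1) (cdM_cmapM f _ 0)
      (cdM_cmapM f _ 1) (cdM_cmapM f _ 0) (cdM_cdM f _ 0)
      (cmapM_exact f _ _ (LinearMap.exact_map_mkQ_range _) 0)
      (cmapM_exact f _ _ (LinearMap.exact_map_mkQ_range _) 1)
      (cmapM_injective f _ (toEnv_injective f fs N hf hM') 1)
      (cmapM_injective f _ (toEnv_injective f fs N hf hM') 2)
      (cmapM_surjective f _ (Submodule.mkQ_surjective _) 0) (env_exact f N 0)
    refine ⟨e₁.trans (e₅.symm.trans ((Submodule.quotEquivOfEq _ _ (congrArg _ ?_)).trans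
      ((e₄.trans e₃).trans e₂.symm)))⟩
    rw [env_ker_zero, ← LinearMap.range_comp,
      show (cmapM f π 0).comp (aug f (Env f N)) = (aug f _).comp π from
        LinearMap.ext fun m => cmapM_aug f π m,
      LinearMap.range_comp, LinearMap.range_eq_top.mpr (Submodule.mkQ_surjective _), Submodule.map_top]
  | succ q ih =>
    intro M _ _
    obtain ⟨e₁⟩ := nonempty_H1_quot f fs M hf (q + 1)
    obtain ⟨e₂⟩ := nonempty_limH_quot fs M (((q + 1 : ℕ) : ℤ) + 2 - fs.length) (by omega) (by omega)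
    have hM' : tors fs (M ⧸ tors fs M) = ⊥ := tors_quot_eq_bot
    set N := M ⧸ tors fs M
    let π := (LinearMap.range (toEnv f N)).mkQ
    obtain ⟨e₃⟩ := nonempty_limH_coker f fs N hf hM' ((q : ℤ) + 2 - fs.length)
      (((q + 1 : ℕ) : ℤ) + 2 - fs.length) (by omega)
    obtain ⟨e₄⟩ := ih (Env f N ⧸ LinearMap.range (toEnv f N))
    obtain ⟨e₅⟩ := nonempty_snake (cdM f N (q + 1)) (cdM f N (q + 2)) (cdM f (Env f N) (q + 1))
      (cdM f (Env f N) (q + 2)) (cdM f (Env f N ⧸ LinearMap.range (toEnv f N)) (q + 1))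
      (cmapM f (toEnv f N) (q + 1)) (cmapM f (toEnv f N) (q + 2)) (cmapM f (toEnv f N) (q + 3))
      (cmapM f π (q + 1)) (cmapM f π (q + 2)) (cdM_cmapM f _ _) (cdM_cmapM f _ _) (cdM_cmapM f _ _)
      (cdM_cdM f _ _)
      (cmapM_exact f _ _ (LinearMap.exact_map_mkQ_range _) _)
      (cmapM_exact f _ _ (LinearMap.exact_map_mkQ_range _) _)
      (cmapM_injective f _ (toEnv_injective f fs N hf hM') _)
      (cmapM_injective f _ (toEnv_injective f fs N hf hM') _)
      (cmapM_surjective f _ (Submodule.mkQ_surjective _) _) (env_exact f N (q + 1))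
    refine ⟨e₁.trans (e₅.symm.trans ((Submodule.quotEquivOfEq _ _ (congrArg _ ?_)).trans
      ((e₄.trans e₃).trans e₂.symm)))⟩
    have hk : LinearMap.ker (cdM f (Env f N) (q + 1)) = LinearMap.range (cdM f (Env f N) q) :=
      le_antisymm (fun z hz => env_exact f N q z hz) (by rintro _ ⟨t, rfl⟩; exact cdM_cdM f _ q t)
    rw [hk, range_cdM_eq f π (Submodule.mkQ_surjective _)]

omit hf

end

end Groth.Agent.KoszulCech
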