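import Groth.Agent.KoszulCech.Main
import Groth.Agent.CohAff.AffineCech
import Groth.Agent.CohAff.CechIso
import Groth.Agent.CohTop.CechBasic
import Groth.Agent.QCoh.Qcqs
import Groth.Prelude.Def_CohB1
import Mathlib.Algebra.Homology.ShortComplex.Ab

/-!
# Čech cohomology of quasi-coherent modules for basic opens, as algebraic Čech cohomology
-/

universe u

open CategoryTheory Limits Opposite AlgebraicGeometry TopologicalSpace
open Groth.Agent.CohAff (inter cmp cmp_bijective cmp_d mlCech bcov inter_basicOpen abHomologyEquivOfSurjective)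

attribute [local instance] HasDerivedCategory.standard

namespace Groth.Agent.KoszulCech

noncomputable section

variable {X : Scheme.{u}} (F : X.Modules)

/-- sections over an open, as a module over global functions -/
def Sect (W : X.Opens) : Type u := Γ(F, W)

instance (W : X.Opens) : AddCommGroup (Sect F W) := inferInstanceAs (AddCommGroup Γ(F, W))

instance (W : X.Opens) : Module Γ(X, ⊤) (Sect F W) :=
  Module.compHom Γ(F, W) (X.presheaf.map (homOfLE (le_top (a := W))).op).hom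

/-- a section as an element of `Sect` -/
def toSect {W : X.Opens} : Γ(F, W) ≃+ Sect F W := AddEquiv.refl _

lemma sect_smul {W : X.Opens} (r : Γ(X, ⊤)) (s : Γ(F, W)) :
    r • toSect F s = toSect F (QCoh.rres (le_top : W ≤ ⊤) r • s) := rfl

/-- the global sections module -/
abbrev Msec : Type u := (ModuleCat.of Γ(X, ⊤) (F.val.obj (op ⊤)) : ModuleCat.{u} Γ(X, ⊤))

/-- an element of the module of global sections as a section -/
def glob : Msec F ≃+ Γ(F, ⊤) := AddEquiv.refl _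

lemma glob_smul (r : Γ(X, ⊤)) (a : Msec F) : glob F (r • a) = r • glob F a := rfl

/-- restriction of global sections -/
def rmap (W : X.Opens) : Msec F →ₗ[Γ(X, ⊤)] Sect F W where
  toFun m := toSect F (QCoh.res F (le_top : W ≤ ⊤) (glob F m))
  map_add' a b := by rw [map_add, map_add, map_add]
  map_smul' r a := by rw [glob_smul, QCoh.res_smul, RingHom.id_apply, sect_smul]

/-- restriction between `Sect`s -/
def resS {W W' : X.Opens} (h : W' ≤ W) : Sect F W →ₗ[Γ(X, ⊤)] Sect F W' where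
  toFun s := toSect F (QCoh.res F h ((toSect F).symm s))
  map_add' a b := by rw [map_add, map_add, map_add]
  map_smul' r a := by
    change toSect F (QCoh.res F h (QCoh.rres (le_top : W ≤ ⊤) r • (toSect F).symm a)) =
      toSect F (QCoh.rres (le_top : W' ≤ ⊤) r • QCoh.res F h ((toSect F).symm a))
    rw [QCoh.res_smul, QCoh.rres_rres]

lemma resS_rmap {W W' : X.Opens} (h : W' ≤ W) (m : Msec F) : resS F h (rmap F W m) = rmap F W' m :=
  congrArg (toSect F) (QCoh.res_res F _ h _)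

lemma isUnit_sect {W : X.Opens} {g : Γ(X, ⊤)} (hW : W ≤ X.basicOpen g) (s : Submonoid.powers g) :
    IsUnit (algebraMap Γ(X, ⊤) (Module.End Γ(X, ⊤) (Sect F W)) s) := by
  obtain ⟨_, n, rfl⟩ := s
  simp only [map_pow]
  refine IsUnit.pow n ?_
  have hu : IsUnit (QCoh.rres (le_top : W ≤ ⊤) g) := by
    rw [← QCoh.rres_rres (le_top : X.basicOpen g ≤ ⊤) hW]
    exact (RingedSpace.isUnit_res_basicOpen _ g).map _
  rw [Module.End.isUnit_iff]
  obtain ⟨u, hu⟩ := hu
  refine Function.bijective_iff_has_inverse.mpr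
    ⟨fun s => toSect F ((↑u⁻¹ : Γ(X, W)) • (toSect F).symm s), fun s => ?_, fun s => ?_⟩
  · change toSect F ((↑u⁻¹ : Γ(X, W)) • (QCoh.rres (le_top : W ≤ ⊤) g • (toSect F).symm s)) = s
    rw [smul_smul, ← hu, Units.inv_mul, one_smul, AddEquiv.apply_symm_apply]
  · change toSect F (QCoh.rres (le_top : W ≤ ⊤) g • ((↑u⁻¹ : Γ(X, W)) • (toSect F).symm s)) = s
    rw [smul_smul, ← hu, Units.mul_inv, one_smul, AddEquiv.apply_symm_apply]

variable [CompactSpace X] [X.IsSeparated] [F.IsQuasicoherent]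

/-- sections over `D(g)` are the localization of global sections -/
theorem isLocalizedModule_rmap {W : X.Opens} {g : Γ(X, ⊤)} (hW : W = X.basicOpen g) :
    IsLocalizedModule (Submonoid.powers g) (rmap F W) := by
  subst hW
  have : QuasiSeparatedSpace X := inferInstance
  have hloc : QCoh.IsLocalizingAt F g :=
    QCoh.isLocalizingAt_of_qcqs F (by simpa using isCompact_univ)
      (IsQuasiSeparated.of_quasiSeparatedSpace _) g
  refine ⟨isUnit_sect F le_rfl, fun s => ?_, fun {a b} hab => ?_⟩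
  · obtain ⟨n, t, ht⟩ := hloc.surj ((toSect F).symm s)
    refine ⟨⟨(glob F).symm t, ⟨_, n, rfl⟩⟩, ?_⟩
    refine Eq.trans ?_ (congrArg (toSect F) ht).symm
    change toSect F (QCoh.rres (le_top : X.basicOpen g ≤ ⊤) (g ^ n) • (toSect F).symm s) = _
    rw [map_pow]
  · obtain ⟨n, hn⟩ := hloc.eq_zero (glob F a - glob F b) (by
      rw [map_sub, sub_eq_zero]
      exact (toSect F).injective hab)
    refine ⟨⟨_, n, rfl⟩, (glob F).injective ?_⟩
    rw [smul_sub, sub_eq_zero] at hn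
    exact hn

variable {ι : Type u} (f : ι → Γ(X, ⊤))

lemma inter_eq {n : ℕ} (x : Fin (n + 1) → ι) : inter (bcov f) x = X.basicOpen (tp f x) :=
  inter_basicOpen f x

/-- comparison with sections -/
def cmpE {n : ℕ} (x : Fin (n + 1) → ι) : L (tp f x) (Msec F) ≃ₗ[Γ(X, ⊤)] Sect F (inter (bcov f) x) :=
  haveI := isLocalizedModule_rmap F (inter_eq f x)
  IsLocalizedModule.linearEquiv (Submonoid.powers (tp f x)) (loc (tp f x) (Msec F))
    (rmap F (inter (bcov f) x))

lemma cmpE_loc {n : ℕ} (x : Fin (n + 1) → ι) (m : Msec F) :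
    cmpE F f x (loc (tp f x) (Msec F) m) = rmap F (inter (bcov f) x) m :=
  haveI := isLocalizedModule_rmap F (inter_eq f x)
  IsLocalizedModule.linearEquiv_apply (Submonoid.powers (tp f x)) (loc (tp f x) (Msec F)) (rmap F (inter (bcov f) x)) m

lemma cmpE_res {n : ℕ} (x : Fin (n + 2) → ι) (j : Fin (n + 2))
    (h : inter (bcov f) x ≤ inter (bcov f) (x ∘ j.succAbove)) (z : L (tp f (x ∘ j.succAbove)) (Msec F)) :
    cmpE F f x (res (tp_dvd f x j) _ z) = resS F h (cmpE F f (x ∘ j.succAbove) z) := by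
  have := IsLocalizedModule.ext (Submonoid.powers (tp f (x ∘ j.succAbove)))
    (loc (tp f (x ∘ j.succAbove)) (Msec F))
    (isUnit_sect F (W := inter (bcov f) x) (h.trans (inter_eq f _).le))
    (j := (cmpE F f x).toLinearMap ∘ₗ res (tp_dvd f x j) _)
    (k := (resS F h) ∘ₗ (cmpE F f (x ∘ j.succAbove)).toLinearMap)
    (LinearMap.ext fun m => by
      simp only [LinearMap.comp_apply, LinearEquiv.coe_coe, res_loc, cmpE_loc, resS_rmap])
  exact congr($this z)

/-- cochains as cochains of sections -/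
def Φ (q : ℕ) : C f q (Msec F) ≃+ CohAff.Cochain F.presheaf (bcov f) q where
  toFun s x := (toSect F).symm (cmpE F f x (s x))
  invFun t x := (cmpE F f x).symm (toSect F (t x))
  left_inv s := funext fun x => by simp
  right_inv t := funext fun x => by simp
  map_add' s t := funext fun x => by simp only [Pi.add_apply, map_add]

lemma Φ_cd (q : ℕ) (s : C f q (Msec F)) :
    Φ F f (q + 1) (cdM f _ q s) = CohAff.cd F.presheaf (bcov f) q (Φ F f q s) := by
  funext x
  change (toSect F).symm (cmpE F f x (cdM f _ q s x)) = _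
  rw [cdM_apply, map_sum, map_sum, CohAff.cd_apply]
  refine Finset.sum_congr rfl fun j _ => ?_
  rw [map_zsmul, map_zsmul, cmpE_res F f x j (CohAff.inter_comp_le _ x j.succAbove)]
  rfl

lemma Φ_aug (m : Msec F) (x : Fin 1 → ι) :
    Φ F f 0 (aug f _ m) x = QCoh.res F le_top (glob F m) :=
  congrArg (toSect F).symm (cmpE_loc F f x m)

omit [CompactSpace X] [X.IsSeparated] [F.IsQuasicoherent] in
/-- homology of the Čech complex from a model of the cochains -/
theorem nonempty_homology_equiv {A : Type u} [CommRing A] {Y : TopCat.{u}} {κ : Type u}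
    (P : TopCat.Presheaf AddCommGrpCat.{u} Y) (U : κ → Opens Y) (q : ℕ)
    {M₀ M₁ M₂ : Type u} [AddCommGroup M₀] [Module A M₀] [AddCommGroup M₁] [Module A M₁]
    [AddCommGroup M₂] [Module A M₂] (d₀ : M₀ →ₗ[A] M₁) (d₁ : M₁ →ₗ[A] M₂)
    (a₀ : M₀ ≃+ CohAff.Cochain P U q) (a₁ : M₁ ≃+ CohAff.Cochain P U (q + 1))
    (a₂ : M₂ ≃+ CohAff.Cochain P U (q + 2))
    (c₀ : ∀ x, a₁ (d₀ x) = CohAff.cd P U q (a₀ x))
    (c₁ : ∀ x, a₂ (d₁ x) = CohAff.cd P U (q + 1) (a₁ x)) :
    Nonempty (((mlCech P U).homology (q + 1) : Type u) ≃+ HomAt d₀ d₁) := by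
  let S := (mlCech P U).sc' q (q + 1) (q + 2)
  have hk : ∀ z : AddMonoidHom.ker S.g.hom, a₁.symm (cmp P U (q + 1) z.1) ∈ LinearMap.ker d₁ := by
    intro z
    apply a₂.injective
    rw [c₁, AddEquiv.apply_symm_apply, map_zero]
    exact ((cmp_d P U (q + 1) z.1).symm.trans (congrArg (cmp P U (q + 2)) z.2)).trans (map_zero _)
  let φ : AddMonoidHom.ker S.g.hom →+ HomAt d₀ d₁ :=
    AddMonoidHom.mk' (fun z => Submodule.Quotient.mk ⟨a₁.symm (cmp P U (q + 1) z.1), hk z⟩) fun z w => by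
      rw [← Submodule.Quotient.mk_add]
      refine congrArg _ (Subtype.ext ?_)
      exact (congrArg a₁.symm (map_add (cmp P U (q + 1)) z.1 w.1)).trans (map_add a₁.symm _ _)
  refine ⟨((mlCech P U).homologyIsoSc' q (q + 1) (q + 2) (by simp) (by simp)).addCommGroupIsoToAddEquiv.trans
    (abHomologyEquivOfSurjective S φ ?_ ?_)⟩
  · intro y
    obtain ⟨⟨m, hm⟩, rfl⟩ := Submodule.mkQ_surjective _ y
    obtain ⟨z, hz⟩ := (cmp_bijective P U (q + 1)).2 (a₁ m)
    refine ⟨⟨z, (cmp_bijective P U (q + 2)).1 ?_⟩, ?_⟩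
    · refine ((cmp_d P U (q + 1) z).trans ?_).trans (map_zero _).symm
      rw [hz, ← c₁, LinearMap.mem_ker.mp hm, map_zero]
    · refine congrArg Submodule.Quotient.mk (Subtype.ext ?_)
      change a₁.symm (cmp P U (q + 1) z) = m
      rw [hz, AddEquiv.symm_apply_apply]
  · refine le_antisymm (fun z hz => ?_) ?_
    · obtain ⟨y, hy⟩ := (Submodule.Quotient.mk_eq_zero _).mp (AddMonoidHom.mem_ker.mp hz)
      obtain ⟨t, ht⟩ := (cmp_bijective P U q).2 (a₀ y)
      refine ⟨t, Subtype.ext ((cmp_bijective P U (q + 1)).1 ?_)⟩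
      refine (cmp_d P U q t).trans ?_
      rw [ht, ← c₀, show d₀ y = a₁.symm (cmp P U (q + 1) z.1) from hy, AddEquiv.apply_symm_apply]
    · rintro _ ⟨t, rfl⟩
      refine AddMonoidHom.mem_ker.mpr ((Submodule.Quotient.mk_eq_zero _).mpr ⟨a₀.symm (cmp P U q t), ?_⟩)
      apply a₁.injective
      rw [c₀, AddEquiv.apply_symm_apply]
      exact ((a₁.apply_symm_apply _).trans (cmp_d P U q t)).symm

variable [Fintype ι] [DecidableEq ι]

/-- Čech cohomology for basic opens is limit Koszul cohomology -/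
theorem nonempty_cechH_equiv (fs : List Γ(X, ⊤)) (hf : ∀ a, a ∈ fs ↔ ∃ i, f i = a) (q : ℕ) :
    Nonempty (↑(CohB1.cechH (bcov f) F (q + 1)) ≃+
      CohIII.koszulHLim fs (ModuleCat.of Γ(X, ⊤) (F.val.obj (op ⊤))) (q + 1 + 1)) := by
  obtain ⟨e⟩ := nonempty_homology_equiv F.presheaf (bcov f) q (cdM f (Msec F) q) (cdM f (Msec F) (q + 1))
    (Φ F f q) (Φ F f (q + 1)) (Φ F f (q + 2)) (Φ_cd F f q) (Φ_cd F f (q + 1))
  obtain ⟨e'⟩ := nonempty_H1_equiv f fs hf q (Msec F)
  have hd : ((q + 1 + 1 : ℕ) : ℤ) - fs.length = (q : ℤ) + 2 - fs.length := by push_cast; ring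
  let e'' := hLimEquiv fs (ModuleCat.of Γ(X, ⊤) (F.val.obj (op ⊤))) (q + 1 + 1)
  rw [hd] at e''
  exact ⟨(e.trans e'.toAddEquiv).trans e''.symm.toAddEquiv⟩

omit [Fintype ι] [DecidableEq ι] in
/-- the kernel of restriction to the union of the basic opens -/
lemma res_eq_zero_iff (U : X.Opens) (hU : U = ⨆ i, X.basicOpen (f i)) (m : Msec F) :
    QCoh.res F (le_top : U ≤ ⊤) (glob F m) = 0 ↔ aug f (Msec F) m = 0 := by
  constructor
  · intro h
    apply (Φ F f 0).injective
    rw [map_zero]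
    funext x
    rw [Φ_aug, Pi.zero_apply]
    have hle : inter (bcov f) x ≤ U :=
      hU ▸ (CohAff.inter_le _ x 0).trans (le_iSup (fun i => X.basicOpen (f i)) (x 0))
    rw [← QCoh.res_res F (le_top : U ≤ ⊤) hle, h, map_zero]
  · intro h
    subst hU
    refine QCoh.eq_zero_of_locally_eq_zero F (U := fun i => inter (bcov f) (fun _ : Fin 1 => i))
      (fun i => (CohAff.inter_le _ _ 0).trans (le_iSup (fun i => X.basicOpen (f i)) i)) ?_ _ fun i => ?_
    · exact iSup_mono fun i => CohAff.le_inter fun _ => le_rfl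
    · rw [QCoh.res_res]
      exact (Φ_aug F f m _).symm.trans (congrFun ((congrArg (Φ F f 0) h).trans (map_zero _)) _)

/-- the kernel of restriction to the union -/
theorem nonempty_ker_equiv (fs : List Γ(X, ⊤)) (hf : ∀ a, a ∈ fs ↔ ∃ i, f i = a) (U : X.Opens)
    (hU : U = ⨆ i, X.basicOpen (f i)) :
    Nonempty (((Coh.toAb F).obj.map (homOfLE (le_top : U ≤ ⊤)).op).hom.ker ≃+
      CohIII.koszulHLim fs (ModuleCat.of Γ(X, ⊤) (F.val.obj (op ⊤))) 0) := by
  obtain ⟨e⟩ := limH_bot fs (ModuleCat.of Γ(X, ⊤) (F.val.obj (op ⊤))) ((0 : ℤ) - fs.length) (by simp)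
  have hk : ∀ m : Msec F, QCoh.res F (le_top : U ≤ ⊤) (glob F m) = 0 ↔ m ∈ tors fs (Msec F) :=
    fun m => (res_eq_zero_iff F f U hU m).trans (LinearMap.mem_ker.symm.trans (mem_ker_aug_iff f fs _ hf m))
  let κ : ((Coh.toAb F).obj.map (homOfLE (le_top : U ≤ ⊤)).op).hom.ker ≃+ tors fs (Msec F) :=
    { toFun := fun z => ⟨z.1, (hk z.1).mp z.2⟩
      invFun := fun z => ⟨z.1, (hk z.1).mpr z.2⟩
      left_inv := fun _ => rfl
      right_inv := fun _ => rfl
      map_add' := fun _ _ => rfl }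
  let e' := hLimEquiv fs (ModuleCat.of Γ(X, ⊤) (F.val.obj (op ⊤))) 0
  exact ⟨κ.trans (e.symm.toAddEquiv.trans e'.symm.toAddEquiv)⟩

omit [CompactSpace X] [X.IsSeparated] [F.IsQuasicoherent] in
/-- cokernel from an injective parametrization of the cocycles -/
theorem nonempty_coker_of {A : Type u} [CommRing A] {M C₀ C₁ G : Type u} [AddCommGroup M] [Module A M]
    [AddCommGroup C₀] [Module A C₀] [AddCommGroup C₁] [Module A C₁] [AddCommGroup G]
    (a : M →ₗ[A] C₀) (d : C₀ →ₗ[A] C₁) (ρ : M →+ G) (ψ : G →+ C₀) (hinj : Function.Injective ψ)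
    (hd : ∀ g, d (ψ g) = 0) (hsurj : ∀ s, d s = 0 → ∃ g, ψ g = s) (hρ : ∀ m, ψ (ρ m) = a m) :
    Nonempty ((G ⧸ ρ.range) ≃+ HomAt a d) := by
  let χ : G →+ HomAt a d :=
    (Submodule.mkQ _).toAddMonoidHom.comp (ψ.codRestrict (LinearMap.ker d) fun g => hd g)
  have hχ : Function.Surjective χ := by
    intro y
    obtain ⟨⟨s, hs⟩, rfl⟩ := Submodule.mkQ_surjective _ y
    obtain ⟨g, rfl⟩ := hsurj s hs
    exact ⟨g, rfl⟩
  have hk : ρ.range = χ.ker := by
    ext g
    refine Iff.trans ?_ ((AddMonoidHom.mem_ker).trans (Submodule.Quotient.mk_eq_zero _)).symm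
    constructor
    · rintro ⟨m, rfl⟩
      exact ⟨m, (hρ m).symm⟩
    · rintro ⟨m, hm⟩
      exact ⟨m, hinj ((hρ m).trans hm)⟩
  exact ⟨(QuotientAddGroup.quotientAddEquivOfEq hk).trans
    (QuotientAddGroup.quotientKerEquivOfSurjective χ hχ)⟩

omit [CompactSpace X] [X.IsSeparated] [F.IsQuasicoherent] [Fintype ι] [DecidableEq ι] in
/-- gluing of a Čech zero cocycle -/
theorem exists_glue' (t : CohAff.Cochain F.presheaf (bcov f) 0)
    (h : CohAff.cd F.presheaf (bcov f) 0 t = 0) :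
    ∃ g : Γ(F, ⨆ i, X.basicOpen (f i)), ∀ x : Fin 1 → ι,
      QCoh.res F ((CohAff.inter_le (bcov f) x 0).trans (le_iSup (fun i => X.basicOpen (f i)) (x 0))) g = t x :=
  CohTop.CechBasic.exists_glue (Coh.toAb F) (bcov f) t h

/-- the cokernel of restriction to the union -/
theorem nonempty_coker_equiv (fs : List Γ(X, ⊤)) (hf : ∀ a, a ∈ fs ↔ ∃ i, f i = a) (U : X.Opens)
    (hU : U = ⨆ i, X.basicOpen (f i)) :
    Nonempty (↑((Coh.toAb F).obj.obj (op U)) ⧸
        ((Coh.toAb F).obj.map (homOfLE (le_top : U ≤ ⊤)).op).hom.range ≃+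
      CohIII.koszulHLim fs (ModuleCat.of Γ(X, ⊤) (F.val.obj (op ⊤))) 1) := by
  subst hU
  obtain ⟨e⟩ := nonempty_Caug_equiv f fs (Msec F) hf
  let e' := hLimEquiv fs (ModuleCat.of Γ(X, ⊤) (F.val.obj (op ⊤))) 1
  have hle : ∀ x : Fin 1 → ι, inter (bcov f) x ≤ ⨆ i, X.basicOpen (f i) := fun x =>
    (CohAff.inter_le _ x 0).trans (le_iSup (fun i => X.basicOpen (f i)) (x 0))
  have h1 : (⨆ i, X.basicOpen (f i)) ≤ ⨆ i, inter (bcov f) (fun _ : Fin 1 => i) :=
    iSup_mono fun i => CohAff.le_inter fun _ => le_rfl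
  let r : Γ(F, ⨆ i, X.basicOpen (f i)) →+ CohAff.Cochain F.presheaf (bcov f) 0 :=
    AddMonoidHom.mk' (fun g x => QCoh.res F (hle x) g) fun a b => funext fun x => map_add _ a b
  have hrg : ∀ g x, r g x = QCoh.res F (hle x) g := fun g x => rfl
  let ψ : Γ(F, ⨆ i, X.basicOpen (f i)) →+ C f 0 (Msec F) := (Φ F f 0).symm.toAddMonoidHom.comp r
  have hψ : ∀ g, Φ F f 0 (ψ g) = r g := fun g => (Φ F f 0).apply_symm_apply _
  obtain ⟨e₀⟩ := nonempty_coker_of (aug f (Msec F)) (cdM f (Msec F) 0)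
    ((QCoh.res F (le_top : (⨆ i, X.basicOpen (f i)) ≤ ⊤)).hom.comp (glob F).toAddMonoidHom) ψ
    (fun a b hab => QCoh.eq_of_locally_eq F (U := fun i => inter (bcov f) (fun _ : Fin 1 => i))
      (fun i => hle _) h1 a b fun i => by
        rw [← hrg, ← hrg, ← hψ, ← hψ, hab])
    (fun g => by
      apply (Φ F f 1).injective
      rw [Φ_cd, hψ, map_zero]
      funext x
      rw [CohAff.cd_apply, Fin.sum_univ_two, Fin.val_zero, pow_zero, one_smul, Fin.val_one, pow_one,
        neg_one_zsmul, Pi.zero_apply, add_neg_eq_zero]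
      exact (QCoh.res_res F _ _ g).trans (QCoh.res_res F _ _ g).symm)
    (fun s hs => by
      have hc : CohAff.cd F.presheaf (bcov f) 0 (Φ F f 0 s) = 0 := by rw [← Φ_cd, hs, map_zero]
      obtain ⟨g, hg⟩ := exists_glue' F f (Φ F f 0 s) hc
      exact ⟨g, (Φ F f 0).injective ((hψ g).trans (funext fun x => (hrg g x).trans (hg x)))⟩)
    (fun m => (Φ F f 0).injective ((hψ _).trans (funext fun x =>
      (QCoh.res_res F _ _ _).trans (Φ_aug F f m x).symm)))
  exact ⟨(e₀.trans e.toAddEquiv).trans e'.symm.toAddEquiv⟩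

end

end Groth.Agent.KoszulCech
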