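import Groth.Prelude.Def_ega3
import Mathlib.Algebra.Homology.DerivedCategory.HomologySequence
import Mathlib.Algebra.Homology.HomologySequenceLemmas
import Mathlib.Algebra.Homology.SingleHomology
import Mathlib.Algebra.Homology.ShortComplex.Linear
import Mathlib.Algebra.Homology.ShortComplex.ModuleCat
import Mathlib.Algebra.Homology.Linear
import Mathlib.Algebra.Homology.HomologicalComplexAbelian

/-!
# The iterated-cone Koszul complex: functoriality, long exact sequence, homotopies
-/

universe u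

open CategoryTheory Limits CochainComplex HomComplex

attribute [local instance] HasDerivedCategory.standard

namespace Groth.Agent.KoszulCech

noncomputable section

variable {A : Type u} [CommRing A]

local notation "K" => CohIII.koszulCx

/-- functoriality of the Koszul complex in the module -/
def kosMap {M N : ModuleCat.{u} A} (g : M ⟶ N) : ∀ fs : List A, K M fs ⟶ K N fs
  | [] => (HomologicalComplex.single _ _ 0).map g
  | f :: fs => mappingCone.map (f • 𝟙 (K M fs)) (f • 𝟙 (K N fs)) (kosMap g fs) (kosMap g fs)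
      (by simp)

@[simp]
lemma kosMap_id (M : ModuleCat.{u} A) : ∀ fs : List A, kosMap (𝟙 M) fs = 𝟙 (K M fs)
  | [] => (HomologicalComplex.single _ _ 0).map_id M
  | f :: fs => by
    simp only [kosMap, kosMap_id M fs]
    exact mappingCone.map_id _

@[simp, reassoc]
lemma kosMap_comp {L M N : ModuleCat.{u} A} (g : L ⟶ M) (h : M ⟶ N) :
    ∀ fs : List A, kosMap (g ≫ h) fs = kosMap g fs ≫ kosMap h fs
  | [] => (HomologicalComplex.single _ _ 0).map_comp g h
  | f :: fs => by
    simp only [kosMap, kosMap_comp g h fs]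
    exact mappingCone.map_comp _ _ _ _ _ _ _ _ _

lemma map_add_cone {P Q P' Q' : CochainComplex (ModuleCat.{u} A) ℤ} (φ : P ⟶ Q) (φ' : P' ⟶ Q')
    (a a' : P ⟶ P') (b b' : Q ⟶ Q') (h : φ ≫ b = a ≫ φ') (h' : φ ≫ b' = a' ≫ φ') :
    mappingCone.map φ φ' (a + a') (b + b') (by simp [h, h']) =
      mappingCone.map φ φ' a b h + mappingCone.map φ φ' a' b' h' := by
  ext1 n
  simp [mappingCone.ext_from_iff _ (n + 1) n rfl, mappingCone.map]

lemma kosMap_add {M N : ModuleCat.{u} A} (g h : M ⟶ N) :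
    ∀ fs : List A, kosMap (g + h) fs = kosMap g fs + kosMap h fs
  | [] => (HomologicalComplex.single _ _ 0).map_add
  | f :: fs => by
    simp only [kosMap, kosMap_add g h fs]
    exact map_add_cone _ _ _ _ _ _ _ _

/-- the Koszul complex as an additive functor of the module -/
@[simps]
def kosFun (fs : List A) : ModuleCat.{u} A ⥤ CochainComplex (ModuleCat.{u} A) ℤ where
  obj M := K M fs
  map g := kosMap g fs

instance (fs : List A) : (kosFun fs).Additive where
  map_add := kosMap_add _ _ fs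

lemma map_comp_map {P₁ Q₁ P₂ Q₂ P₃ Q₃ P₄ Q₄ : CochainComplex (ModuleCat.{u} A) ℤ}
    (φ₁ : P₁ ⟶ Q₁) (φ₂ : P₂ ⟶ Q₂) (φ₄ : P₄ ⟶ Q₄) (φ₃ : P₃ ⟶ Q₃)
    (a : P₁ ⟶ P₂) (b : Q₁ ⟶ Q₂) (w : φ₁ ≫ b = a ≫ φ₂)
    (a' : P₂ ⟶ P₃) (b' : Q₂ ⟶ Q₃) (w' : φ₂ ≫ b' = a' ≫ φ₃)
    (c : P₁ ⟶ P₄) (d : Q₁ ⟶ Q₄) (v : φ₁ ≫ d = c ≫ φ₄)
    (c' : P₄ ⟶ P₃) (d' : Q₄ ⟶ Q₃) (v' : φ₄ ≫ d' = c' ≫ φ₃)
    (h₁ : a ≫ a' = c ≫ c') (h₂ : b ≫ b' = d ≫ d') :
    mappingCone.map φ₁ φ₂ a b w ≫ mappingCone.map φ₂ φ₃ a' b' w' =
      mappingCone.map φ₁ φ₄ c d v ≫ mappingCone.map φ₄ φ₃ c' d' v' := by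
  rw [← mappingCone.map_comp, ← mappingCone.map_comp]
  congr 1

lemma map_comp_eq {P₁ Q₁ P₂ Q₂ P₃ Q₃ : CochainComplex (ModuleCat.{u} A) ℤ}
    (φ₁ : P₁ ⟶ Q₁) (φ₂ : P₂ ⟶ Q₂) (φ₃ : P₃ ⟶ Q₃)
    (a : P₁ ⟶ P₂) (b : Q₁ ⟶ Q₂) (w : φ₁ ≫ b = a ≫ φ₂)
    (a' : P₂ ⟶ P₃) (b' : Q₂ ⟶ Q₃) (w' : φ₂ ≫ b' = a' ≫ φ₃)
    (c : P₁ ⟶ P₃) (d : Q₁ ⟶ Q₃) (v : φ₁ ≫ d = c ≫ φ₃)
    (h₁ : a ≫ a' = c) (h₂ : b ≫ b' = d) :
    mappingCone.map φ₁ φ₂ a b w ≫ mappingCone.map φ₂ φ₃ a' b' w' =
      mappingCone.map φ₁ φ₃ c d v := by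
  rw [← mappingCone.map_comp]
  congr 1

lemma kosTrans_naturality {M N : ModuleCat.{u} A} (g : M ⟶ N) {n m : ℕ} (h : n ≤ m) :
    ∀ fs : List A, kosMap g (fs.map (· ^ n)) ≫ CohIII.koszulTrans N n m h fs =
      CohIII.koszulTrans M n m h fs ≫ kosMap g (fs.map (· ^ m))
  | [] => (Category.comp_id _).trans (Category.id_comp _).symm
  | f :: fs => map_comp_map _ _ _ _ _ _ _ _ _ _ _ _ _ _ _ _ (kosTrans_naturality g h fs) (by
      rw [Linear.comp_smul, Linear.smul_comp, kosTrans_naturality g h fs])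

lemma koszulTrans_self (M : ModuleCat.{u} A) (n : ℕ) :
    ∀ fs : List A, CohIII.koszulTrans M n n le_rfl fs = 𝟙 _
  | [] => rfl
  | f :: fs => by
    simp only [CohIII.koszulTrans, koszulTrans_self M n fs, Nat.sub_self, pow_zero, one_smul]
    exact mappingCone.map_id _

lemma koszulTrans_comp (M : ModuleCat.{u} A) {n m l : ℕ} (h : n ≤ m) (h' : m ≤ l) :
    ∀ fs : List A, CohIII.koszulTrans M n m h fs ≫ CohIII.koszulTrans M m l h' fs =
      CohIII.koszulTrans M n l (h.trans h') fs
  | [] => Category.id_comp _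
  | f :: fs => map_comp_eq _ _ _ _ _ _ _ _ _ _ _ _ (koszulTrans_comp M h h' fs) (by
      rw [Linear.comp_smul, Linear.smul_comp, smul_smul, koszulTrans_comp M h h' fs, ← pow_add]
      congr 2
      omega)

lemma isZero_X (M : ModuleCat.{u} A) : ∀ (fs : List A) (i : ℤ), 0 < i ∨ i < -(fs.length : ℤ) →
    IsZero ((K M fs).X i)
  | [], i, h => HomologicalComplex.isZero_single_obj_X _ _ _ i (by simp at h; omega)
  | f :: fs, i, h => by
    refine (mappingCone.isZero_X_iff (f • 𝟙 (K M fs)) i).mpr ⟨?_, ?_⟩ <;>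
    · refine isZero_X M fs _ ?_
      simp only [List.length_cons, Nat.cast_succ] at h
      omega

lemma subsingleton_homology (M : ModuleCat.{u} A) (fs : List A) (i : ℤ)
    (h : 0 < i ∨ i < -(fs.length : ℤ)) : Subsingleton ((K M fs).homology i) :=
  ModuleCat.subsingleton_of_isZero (((K M fs).exactAt_iff_isZero_homology i).mp
    (ShortComplex.exact_of_isZero_X₂ _ (isZero_X M fs i h)))

section Cone

variable {P Q : CochainComplex (ModuleCat.{u} A) ℤ} (φ : P ⟶ Q)

lemma cone_decomp (i j : ℤ) (h : i + 1 = j) (x : (mappingCone φ).X i) :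
    (mappingCone.inl φ).v j i (by omega) ((mappingCone.fst φ).1.v i j h x) +
      (mappingCone.inr φ).f i ((mappingCone.snd φ).v i i (add_zero i) x) = x := by
  exact congr($(mappingCone.id_X φ i j h) x)

variable {P' Q' : CochainComplex (ModuleCat.{u} A) ℤ} (φ' : P' ⟶ Q') (a : P ⟶ P') (b : Q ⟶ Q')
  (w : φ ≫ b = a ≫ φ')

lemma cone_map_fst (i j : ℤ) (h : i + 1 = j) :
    (mappingCone.map φ φ' a b w).f i ≫ (mappingCone.fst φ').1.v i j h =
      (mappingCone.fst φ).1.v i j h ≫ a.f j := by
  rw [mappingCone.ext_from_iff φ j i h]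
  simp [mappingCone.map]

lemma cone_map_snd (i : ℤ) :
    (mappingCone.map φ φ' a b w).f i ≫ (mappingCone.snd φ').v i i (add_zero i) =
      (mappingCone.snd φ).v i i (add_zero i) ≫ b.f i := by
  rw [mappingCone.ext_from_iff φ (i + 1) i rfl]
  simp [mappingCone.map]

lemma cone_map_inl (i j : ℤ) (h : i + 1 = j) :
    (mappingCone.inl φ).v j i (by omega) ≫ (mappingCone.map φ φ' a b w).f i =
      a.f j ≫ (mappingCone.inl φ').v j i (by omega) := by
  simp [mappingCone.map]

lemma cone_map_inr (i : ℤ) :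
    (mappingCone.inr φ).f i ≫ (mappingCone.map φ φ' a b w).f i =
      b.f i ≫ (mappingCone.inr φ').f i := by
  simp [mappingCone.map]

lemma cone_map_fst_apply (i j : ℤ) (h : i + 1 = j) (x : (mappingCone φ).X i) :
    (mappingCone.fst φ').1.v i j h ((mappingCone.map φ φ' a b w).f i x) =
      a.f j ((mappingCone.fst φ).1.v i j h x) :=
  congr($(cone_map_fst φ φ' a b w i j h) x)

lemma cone_map_snd_apply (i : ℤ) (x : (mappingCone φ).X i) :
    (mappingCone.snd φ').v i i (add_zero i) ((mappingCone.map φ φ' a b w).f i x) =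
      b.f i ((mappingCone.snd φ).v i i (add_zero i) x) :=
  congr($(cone_map_snd φ φ' a b w i) x)

lemma cone_map_combine (i j : ℤ) (h : i + 1 = j) (p : P.X j) (q : Q.X i) :
    (mappingCone.map φ φ' a b w).f i
        ((mappingCone.inl φ).v j i (by omega) p + (mappingCone.inr φ).f i q) =
      (mappingCone.inl φ').v j i (by omega) (a.f j p) + (mappingCone.inr φ').f i (b.f i q) :=
  (map_add _ _ _).trans (congrArg₂ (· + ·) congr($(cone_map_inl φ φ' a b w i j h) p)
    congr($(cone_map_inr φ φ' a b w i) q))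

lemma cone_map_injective (ha : ∀ i, Function.Injective (a.f i)) (hb : ∀ i, Function.Injective (b.f i))
    (i : ℤ) : Function.Injective ((mappingCone.map φ φ' a b w).f i) := by
  intro x y hxy
  have e1 := congrArg ((mappingCone.fst φ').1.v i (i + 1) rfl) hxy
  have e2 := congrArg ((mappingCone.snd φ').v i i (add_zero i)) hxy
  rw [cone_map_fst_apply, cone_map_fst_apply] at e1
  rw [cone_map_snd_apply, cone_map_snd_apply] at e2
  rw [← cone_decomp φ i (i + 1) rfl x, ← cone_decomp φ i (i + 1) rfl y, ha _ e1, hb _ e2]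

lemma cone_map_surjective (ha : ∀ i, Function.Surjective (a.f i))
    (hb : ∀ i, Function.Surjective (b.f i)) (i : ℤ) :
    Function.Surjective ((mappingCone.map φ φ' a b w).f i) := by
  intro z
  obtain ⟨p, hp⟩ := ha _ ((mappingCone.fst φ').1.v i (i + 1) rfl z)
  obtain ⟨q, hq⟩ := hb _ ((mappingCone.snd φ').v i i (add_zero i) z)
  refine ⟨_, (cone_map_combine φ φ' a b w i (i + 1) rfl p q).trans ?_⟩
  rw [hp, hq]
  exact cone_decomp φ' i (i + 1) rfl z

lemma cone_map_exact {P'' Q'' : CochainComplex (ModuleCat.{u} A) ℤ} (φ'' : P'' ⟶ Q'')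
    (a' : P' ⟶ P'') (b' : Q' ⟶ Q'') (w' : φ' ≫ b' = a' ≫ φ'')
    (ha : ∀ i (x : P'.X i), a'.f i x = 0 → ∃ y, a.f i y = x)
    (hb : ∀ i (x : Q'.X i), b'.f i x = 0 → ∃ y, b.f i y = x)
    (i : ℤ) (z : (mappingCone φ').X i) (hz : (mappingCone.map φ' φ'' a' b' w').f i z = 0) :
    ∃ y, (mappingCone.map φ φ' a b w).f i y = z := by
  have e1 := cone_map_fst_apply φ' φ'' a' b' w' i (i + 1) rfl z
  have e2 := cone_map_snd_apply φ' φ'' a' b' w' i z
  rw [hz, map_zero] at e1 e2
  obtain ⟨p, hp⟩ := ha _ _ e1.symm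
  obtain ⟨q, hq⟩ := hb _ _ e2.symm
  refine ⟨_, (cone_map_combine φ φ' a b w i (i + 1) rfl p q).trans ?_⟩
  rw [hp, hq]
  exact cone_decomp φ' i (i + 1) rfl z

end Cone

lemma kosMap_f_injective {M N : ModuleCat.{u} A} (g : M ⟶ N) (hg : Function.Injective g) :
    ∀ (fs : List A) (i : ℤ), Function.Injective ((kosMap g fs).f i)
  | [], i => by
    by_cases hi : i = 0
    · subst hi
      intro x y hxy
      have h := HomologicalComplex.single_map_f_self (c := ComplexShape.up ℤ) (V := ModuleCat.{u} A) 0 g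
      simp only [kosMap] at hxy
      rw [h] at hxy
      apply (HomologicalComplex.singleObjXSelf (ComplexShape.up ℤ) 0 M).toLinearEquiv.injective
      apply hg
      exact (HomologicalComplex.singleObjXSelf (ComplexShape.up ℤ) 0 N).toLinearEquiv.symm.injective hxy
    · have := ModuleCat.subsingleton_of_isZero (isZero_X M [] i (by simp; omega))
      exact Function.injective_of_subsingleton _
  | f :: fs, i => cone_map_injective _ _ _ _ _ (kosMap_f_injective g hg fs)
      (kosMap_f_injective g hg fs) i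

lemma kosMap_f_surjective {M N : ModuleCat.{u} A} (g : M ⟶ N) (hg : Function.Surjective g) :
    ∀ (fs : List A) (i : ℤ), Function.Surjective ((kosMap g fs).f i)
  | [], i => by
    by_cases hi : i = 0
    · subst hi
      intro y
      have h := HomologicalComplex.single_map_f_self (c := ComplexShape.up ℤ) (V := ModuleCat.{u} A) 0 g
      simp only [kosMap]
      rw [h]
      obtain ⟨m, hm⟩ := hg ((HomologicalComplex.singleObjXSelf (ComplexShape.up ℤ) 0 N).toLinearEquiv y)
      obtain ⟨x, rfl⟩ := (HomologicalComplex.singleObjXSelf (ComplexShape.up ℤ) 0 M).toLinearEquiv.surjective m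
      refine ⟨x, ?_⟩
      exact ((HomologicalComplex.singleObjXSelf (ComplexShape.up ℤ) 0 N).toLinearEquiv.symm_apply_eq).mpr hm
    · have := ModuleCat.subsingleton_of_isZero (isZero_X N [] i (by simp; omega))
      exact fun y => ⟨0, Subsingleton.elim _ _⟩
  | f :: fs, i => cone_map_surjective _ _ _ _ _ (kosMap_f_surjective g hg fs)
      (kosMap_f_surjective g hg fs) i

lemma kosMap_f_exact {L M N : ModuleCat.{u} A} (g : L ⟶ M) (h : M ⟶ N)
    (hgh : Function.Exact g h) :
    ∀ (fs : List A) (i : ℤ) (x : (K M fs).X i), (kosMap h fs).f i x = 0 →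
      ∃ y, (kosMap g fs).f i y = x
  | [], i => by
    by_cases hi : i = 0
    · subst hi
      intro x hx
      simp only [kosMap] at hx ⊢
      rw [HomologicalComplex.single_map_f_self] at hx ⊢
      obtain ⟨l, hl⟩ := (hgh ((HomologicalComplex.singleObjXSelf (ComplexShape.up ℤ) 0 M).toLinearEquiv x)).mp
        ((HomologicalComplex.singleObjXSelf (ComplexShape.up ℤ) 0 N).toLinearEquiv.symm.injective
          (hx.trans (map_zero _).symm))
      obtain ⟨y, rfl⟩ := (HomologicalComplex.singleObjXSelf (ComplexShape.up ℤ) 0 L).toLinearEquiv.surjective l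
      exact ⟨y, ((HomologicalComplex.singleObjXSelf (ComplexShape.up ℤ) 0 M).toLinearEquiv.symm_apply_eq).mpr hl⟩
    · have := ModuleCat.subsingleton_of_isZero (isZero_X M [] i (by simp; omega))
      exact fun x _ => ⟨0, Subsingleton.elim _ _⟩
  | f :: fs, i => cone_map_exact _ _ _ _ _ _ _ _ _ (kosMap_f_exact g h hgh fs)
      (kosMap_f_exact g h hgh fs) i

lemma map_smul_cone {P Q P' Q' : CochainComplex (ModuleCat.{u} A) ℤ} (φ : P ⟶ Q) (φ' : P' ⟶ Q')
    (a : A) (p : P ⟶ P') (q : Q ⟶ Q') (h : φ ≫ q = p ≫ φ') :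
    mappingCone.map φ φ' (a • p) (a • q) (by simp [h]) = a • mappingCone.map φ φ' p q h := by
  ext1 n
  simp [mappingCone.ext_from_iff _ (n + 1) n rfl, mappingCone.map]

lemma kosMap_smul (a : A) {M N : ModuleCat.{u} A} (g : M ⟶ N) :
    ∀ fs : List A, kosMap (a • g) fs = a • kosMap g fs
  | [] => by
    apply HomologicalComplex.to_single_hom_ext
    simp only [kosMap]
    refine (HomologicalComplex.single_map_f_self (ComplexShape.up ℤ) (0 : ℤ) (a • g)).trans ?_
    refine Eq.trans ?_ (congrArg (a • ·) (HomologicalComplex.single_map_f_self (ComplexShape.up ℤ) (0 : ℤ) g).symm)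
    simp
    rfl
  | f :: fs => by
    simp only [kosMap, kosMap_smul a g fs]
    exact map_smul_cone _ _ _ _ _ _

lemma kosMap_zero (M N : ModuleCat.{u} A) (fs : List A) : kosMap (0 : M ⟶ N) fs = 0 :=
  (kosFun fs).map_zero M N

/-- the short complex of Koszul complexes attached to a short complex of modules -/
abbrev kosSC (S : ShortComplex (ModuleCat.{u} A)) (fs : List A) :
    ShortComplex (CochainComplex (ModuleCat.{u} A) ℤ) := S.map (kosFun fs)

lemma kosSC_shortExact {S : ShortComplex (ModuleCat.{u} A)} (hS : S.ShortExact) (fs : List A) :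
    (kosSC S fs).ShortExact := by
  refine HomologicalComplex.shortExact_of_degreewise_shortExact _ fun i => ?_
  have := hS.mono_f
  have := hS.epi_g
  exact {
    exact := (ShortComplex.moduleCat_exact_iff _).mpr fun x hx =>
      kosMap_f_exact S.f S.g ((ShortComplex.ShortExact.moduleCat_exact_iff_function_exact _).mp hS.exact) fs i x hx
    mono_f := (ModuleCat.mono_iff_injective _).mpr
      (kosMap_f_injective S.f ((ModuleCat.mono_iff_injective _).mp inferInstance) fs i)
    epi_g := (ModuleCat.epi_iff_surjective _).mpr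
      (kosMap_f_surjective S.g ((ModuleCat.epi_iff_surjective _).mp inferInstance) fs i) }

/-- the morphism of short complexes of Koszul complexes given by the transition maps -/
def kosSCTrans (S : ShortComplex (ModuleCat.{u} A)) (fs : List A) {n m : ℕ} (h : n ≤ m) :
    kosSC S (fs.map (· ^ n)) ⟶ kosSC S (fs.map (· ^ m)) where
  τ₁ := CohIII.koszulTrans _ n m h fs
  τ₂ := CohIII.koszulTrans _ n m h fs
  τ₃ := CohIII.koszulTrans _ n m h fs
  comm₁₂ := (kosTrans_naturality S.f h fs).symm
  comm₂₃ := (kosTrans_naturality S.g h fs).symm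

/-! ### The long exact sequence of the cone -/

lemma homologyMap_smul (a : A) {P Q : CochainComplex (ModuleCat.{u} A) ℤ} (φ : P ⟶ Q) (i : ℤ) :
    HomologicalComplex.homologyMap (a • φ) i = a • HomologicalComplex.homologyMap φ i := by
  have : (HomologicalComplex.shortComplexFunctor (ModuleCat.{u} A) (ComplexShape.up ℤ) i).map
      (a • φ) = (a • (HomologicalComplex.shortComplexFunctor (ModuleCat.{u} A) (ComplexShape.up ℤ) i).map φ :
        P.sc i ⟶ Q.sc i) := by ext <;> rfl
  rw [HomologicalComplex.homologyMap, this, ShortComplex.homologyMap_smul]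
  rfl

lemma homologyMap_smul_id (f : A) (P : CochainComplex (ModuleCat.{u} A) ℤ) (i : ℤ) :
    HomologicalComplex.homologyMap (f • 𝟙 P) i = f • 𝟙 (P.homology i) := by
  rw [homologyMap_smul, HomologicalComplex.homologyMap_id]

variable (M : ModuleCat.{u} A) (f : A) (fs : List A)

/-- The map `H^i K(fs) → H^i K(f :: fs)`. -/
def ι (i : ℤ) : (K M fs).homology i →ₗ[A] (K M (f :: fs)).homology i :=
  (HomologicalComplex.homologyMap (mappingCone.triangle (f • 𝟙 (K M fs))).mor₂ i).hom

/-- The connecting map `H^i K(f :: fs) → H^{i+1} K(fs)`. -/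
def δ (i j : ℤ) (h : i + 1 = j) : (K M (f :: fs)).homology i →ₗ[A] (K M fs).homology j :=
  (homologyδOfTriangle (mappingCone.triangle (f • 𝟙 (K M fs))) i j h).hom

variable {M f fs}

lemma ι_eq_zero_iff (i : ℤ) (x : (K M fs).homology i) : ι M f fs i x = 0 ↔ ∃ y, f • y = x := by
  have hT := DerivedCategory.mappingCone_triangle_distinguished (f • 𝟙 (K M fs))
  have h1 : HomologicalComplex.homologyMap (mappingCone.triangle (f • 𝟙 (K M fs))).mor₁ i = f • 𝟙 _ :=
    homologyMap_smul_id f _ i
  constructor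
  · intro hx
    obtain ⟨y, hy⟩ := (ShortComplex.moduleCat_exact_iff _).mp
      (homologyMap_exact₂_of_distTriang _ hT i) x hx
    refine ⟨y, ?_⟩
    rw [← hy]
    change _ = (HomologicalComplex.homologyMap (mappingCone.triangle (f • 𝟙 (K M fs))).mor₁ i).hom y
    rw [h1]
    rfl
  · rintro ⟨y, rfl⟩
    have := ConcreteCategory.congr_hom (homologyMap_comp_eq_zero_of_distTriang _ hT i) y
    rw [h1] at this
    exact this

lemma δ_eq_zero_iff (i j : ℤ) (h : i + 1 = j) (x : (K M (f :: fs)).homology i) :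
    δ M f fs i j h x = 0 ↔ ∃ y, ι M f fs i y = x := by
  have hT := DerivedCategory.mappingCone_triangle_distinguished (f • 𝟙 (K M fs))
  constructor
  · intro hx
    exact (ShortComplex.moduleCat_exact_iff _).mp
      (homologyMap_exact₃_of_distTriang _ hT i j h) x hx
  · rintro ⟨y, rfl⟩
    exact ConcreteCategory.congr_hom (homologyMap_homologyδOfTriangle _ hT i j h) y

lemma smul_eq_zero_iff (i j : ℤ) (h : i + 1 = j) (x : (K M fs).homology j) :
    f • x = 0 ↔ ∃ y, δ M f fs i j h y = x := by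
  have hT := DerivedCategory.mappingCone_triangle_distinguished (f • 𝟙 (K M fs))
  have h1 : HomologicalComplex.homologyMap (mappingCone.triangle (f • 𝟙 (K M fs))).mor₁ j = f • 𝟙 _ :=
    homologyMap_smul_id f _ j
  constructor
  · intro hx
    exact (ShortComplex.moduleCat_exact_iff _).mp
      (homologyMap_exact₁_of_distTriang _ hT i j h) x (by
        change (HomologicalComplex.homologyMap (mappingCone.triangle (f • 𝟙 (K M fs))).mor₁ j).hom x = 0
        rw [h1]; exact hx)
  · rintro ⟨y, rfl⟩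
    have := ConcreteCategory.congr_hom (homologyδOfTriangle_homologyMap _ hT i j h) y
    rw [h1] at this
    exact this

lemma homologyδOfTriangle_naturality {T T' : Pretriangulated.Triangle (CochainComplex (ModuleCat.{u} A) ℤ)}
    (φ : T ⟶ T') (i j : ℤ) (h : i + 1 = j) :
    HomologicalComplex.homologyMap φ.hom₃ i ≫ homologyδOfTriangle T' i j h =
      homologyδOfTriangle T i j h ≫ HomologicalComplex.homologyMap φ.hom₁ j := by
  have h3 := congrArg (fun ψ => HomologicalComplex.homologyMap ψ i) φ.comm₃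
  simp only [HomologicalComplex.homologyMap_comp] at h3
  have hn := ((HomologicalComplex.homologyFunctor (ModuleCat.{u} A) (ComplexShape.up ℤ) 0).shiftIso
    1 i j (by omega)).hom.naturality φ.hom₁
  exact (Category.assoc _ _ _).symm.trans ((congrArg (· ≫ _) h3.symm).trans
    ((Category.assoc _ _ _).trans ((congrArg (_ ≫ ·) hn).trans (Category.assoc _ _ _).symm)))

/-- transition maps in homology -/
def tr (M : ModuleCat.{u} A) (fs : List A) (i : ℤ) (n m : ℕ) (h : n ≤ m) :
    (K M (fs.map (· ^ n))).homology i →ₗ[A] (K M (fs.map (· ^ m))).homology i :=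
  (HomologicalComplex.homologyMap (CohIII.koszulTrans M n m h fs) i).hom

lemma tr_δ (i j : ℤ) (hij : i + 1 = j) {n m : ℕ} (h : n ≤ m)
    (x : (K M ((f :: fs).map (· ^ n))).homology i) :
    δ M (f ^ m) (fs.map (· ^ m)) i j hij (tr M (f :: fs) i n m h x) =
      tr M fs j n m h (δ M (f ^ n) (fs.map (· ^ n)) i j hij x) :=
  congr($(homologyδOfTriangle_naturality
    (mappingCone.triangleMap (f ^ n • 𝟙 (K M (fs.map (· ^ n)))) (f ^ m • 𝟙 (K M (fs.map (· ^ m))))
      (CohIII.koszulTrans M n m h fs) (f ^ (m - n) • CohIII.koszulTrans M n m h fs) (by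
        simp only [Linear.smul_comp, Linear.comp_smul, Category.id_comp, Category.comp_id, smul_smul,
          ← pow_add, Nat.sub_add_cancel h])) i j hij) x)

lemma tr_ι (i : ℤ) {n m : ℕ} (h : n ≤ m) (y : (K M (fs.map (· ^ n))).homology i) :
    tr M (f :: fs) i n m h (ι M (f ^ n) (fs.map (· ^ n)) i y) =
      ι M (f ^ m) (fs.map (· ^ m)) i (f ^ (m - n) • tr M fs i n m h y) := by
  have h2 := (mappingCone.triangleMap (f ^ n • 𝟙 (K M (fs.map (· ^ n))))
    (f ^ m • 𝟙 (K M (fs.map (· ^ m)))) (CohIII.koszulTrans M n m h fs)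
    (f ^ (m - n) • CohIII.koszulTrans M n m h fs) (by
      simp only [Linear.smul_comp, Linear.comp_smul, Category.id_comp, Category.comp_id, smul_smul,
        ← pow_add, Nat.sub_add_cancel h])).comm₂
  have h3 := congrArg (fun φ => HomologicalComplex.homologyMap φ i) h2
  simp only [HomologicalComplex.homologyMap_comp] at h3
  refine congr($h3 y).trans ?_
  refine congrArg (ι M (f ^ m) (fs.map (· ^ m)) i) ?_
  change (HomologicalComplex.homologyMap (f ^ (m - n) • CohIII.koszulTrans M n m h fs) i).hom y = _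
  rw [homologyMap_smul]
  rfl

/-! ### Homotopies: multiplication by an element of the ideal is null-homotopic -/

lemma exists_cochain_δ (M : ModuleCat.{u} A) : ∀ (fs : List A) (a : A),
    a ∈ Ideal.span {x | x ∈ fs} →
    ∃ z : Cochain (K M fs) (K M fs) (-1),
      HomComplex.δ (-1) 0 z = Cochain.ofHom (a • 𝟙 (K M fs))
  | [], a, ha => by
    refine ⟨0, ?_⟩
    have : a = 0 := by simpa [Ideal.span] using ha
    simp [this]
  | f :: fs, a, ha => by
    have he : {x | x ∈ f :: fs} = insert f {x | x ∈ fs} := by ext; simp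
    rw [he, Ideal.mem_span_insert] at ha
    obtain ⟨c, b, hb, rfl⟩ := ha
    obtain ⟨h, hh⟩ := exists_cochain_δ M fs b hb
    let φ : K M fs ⟶ K M fs := f • 𝟙 (K M fs)
    let z₀ : Cochain (mappingCone φ) (mappingCone φ) (-1) :=
      (mappingCone.snd φ).comp (mappingCone.inl φ) (zero_add (-1))
    let z₁ : Cochain (mappingCone φ) (mappingCone φ) (-1) :=
      (mappingCone.fst φ).1.comp (h.comp (mappingCone.inl φ) (by norm_num : (-1 : ℤ) + -1 = -2))
        (by norm_num)
    let z₂ : Cochain (mappingCone φ) (mappingCone φ) (-1) :=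
      (mappingCone.snd φ).comp (h.comp (Cochain.ofHom (mappingCone.inr φ)) (add_zero (-1))) (zero_add (-1))
    have hid : Cochain.ofHom (𝟙 (mappingCone φ)) =
        (mappingCone.fst φ).1.comp (mappingCone.inl φ) (add_neg_cancel 1) +
          (mappingCone.snd φ).comp (Cochain.ofHom (mappingCone.inr φ)) (add_zero 0) :=
      (mappingCone.id φ).symm
    have hi : Cochain.ofHom (φ ≫ mappingCone.inr φ) = f • Cochain.ofHom (mappingCone.inr φ) := by
      ext p; simp [φ]
    have hf' : (mappingCone.fst φ).1.comp (Cochain.ofHom φ) (add_zero 1) =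
        f • (mappingCone.fst φ).1 := by
      ext p q hpq; simp [φ]
    have hb' : ∀ (L : CochainComplex (ModuleCat.{u} A) ℤ) (m : ℤ) (w : Cochain (K M fs) L m)
        (e : 0 + m = m), (Cochain.ofHom (b • 𝟙 (K M fs))).comp w e = b • w := by
      intro L m w e; ext p q hpq; simp
    have hδ₀ : HomComplex.δ (-1) 0 z₀ = f • Cochain.ofHom (𝟙 (mappingCone φ)) := by
      rw [hid, δ_comp (mappingCone.snd φ) _ (zero_add (-1)) 1 0 0 (by norm_num) (by norm_num)
        (by norm_num), mappingCone.δ_inl, mappingCone.δ_snd, hi, hf']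
      simp only [Cochain.comp_smul, Cochain.smul_comp, Cochain.neg_comp, Int.negOnePow_neg,
        Int.negOnePow_one, Units.neg_smul, one_smul, neg_neg, smul_add]
      abel
    have hδhl : HomComplex.δ (-2) (-1) (h.comp (mappingCone.inl φ) (by norm_num : (-1 : ℤ) + -1 = -2)) =
        f • h.comp (Cochain.ofHom (mappingCone.inr φ)) (add_zero (-1)) - b • mappingCone.inl φ := by
      rw [δ_comp h (mappingCone.inl φ) (by norm_num : (-1 : ℤ) + -1 = -2) 0 0 (-1) (by norm_num)
          (by norm_num) (by norm_num), mappingCone.δ_inl, hh, hi, hb']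
      simp only [Cochain.comp_smul, Int.negOnePow_neg, Int.negOnePow_one, Units.neg_smul, one_smul]
      abel
    have hδhr : HomComplex.δ (-1) 0 (h.comp (Cochain.ofHom (mappingCone.inr φ)) (add_zero (-1))) =
        b • Cochain.ofHom (mappingCone.inr φ) := by
      rw [δ_comp_ofHom, hh, hb']
    have hδ₁₂ : HomComplex.δ (-1) 0 (z₂ - z₁) = b • Cochain.ofHom (𝟙 (mappingCone φ)) := by
      rw [hid, δ_sub,
        δ_comp (mappingCone.snd φ) _ (zero_add (-1)) 1 0 0 (by norm_num) (by norm_num) (by norm_num),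
        δ_comp (mappingCone.fst φ).1 _ (by norm_num : (1 : ℤ) + -2 = -1) 2 (-1) 0 (by norm_num)
          (by norm_num) (by norm_num),
        Cocycle.δ_eq_zero, mappingCone.δ_snd, hδhl, hδhr, hf']
      simp only [Cochain.comp_smul, Cochain.smul_comp, Cochain.neg_comp, Cochain.comp_sub,
        Cochain.zero_comp, smul_zero, add_zero, Int.negOnePow_neg,
        Int.negOnePow_one, Units.neg_smul, one_smul, neg_neg, smul_add]
      abel
    have key : HomComplex.δ (-1) 0 (c • z₀ + (z₂ - z₁)) =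
        Cochain.ofHom ((c * f + b) • 𝟙 (mappingCone φ)) := by
      rw [δ_add, δ_smul, hδ₀, hδ₁₂]
      ext p
      simp [add_smul, mul_smul]
    exact ⟨c • z₀ + (z₂ - z₁), key⟩

theorem smul_id_homotopic_zero (M : ModuleCat.{u} A) (fs : List A) (a : A)
    (ha : a ∈ Ideal.span {x | x ∈ fs}) : Nonempty (Homotopy (a • 𝟙 (K M fs)) 0) := by
  obtain ⟨z, hz⟩ := exists_cochain_δ M fs a ha
  exact ⟨(Cochain.equivHomotopy _ _).symm ⟨z, by simp [hz]⟩⟩

theorem smul_homology_eq_zero (M : ModuleCat.{u} A) (fs : List A) (a : A)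
    (ha : a ∈ Ideal.span {x | x ∈ fs}) (i : ℤ) (x : (K M fs).homology i) : a • x = 0 := by
  obtain ⟨H⟩ := smul_id_homotopic_zero M fs a ha
  have := congr($(H.homologyMap_eq i) x)
  rw [homologyMap_smul_id, HomologicalComplex.homologyMap_zero] at this
  exact this

/-- if some element of the list acts bijectively, the Koszul complex is acyclic -/
theorem subsingleton_of_bijective (M : ModuleCat.{u} A) (fs : List A) (a : A) (ha : a ∈ fs)
    (hb : Function.Bijective fun x : M => a • x) (i : ℤ) :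
    Subsingleton ((K M fs).homology i) := by
  refine subsingleton_of_forall_eq 0 fun x => ?_
  let e : M ≅ M := (LinearEquiv.ofBijective (LinearMap.lsmul A M a) hb).toModuleIso
  have he : kosMap e.hom fs = a • 𝟙 (K M fs) := by
    rw [← kosMap_id M fs, ← kosMap_smul a]
    congr 1
  have h1 : HomologicalComplex.homologyMap (kosMap e.inv fs) i ≫
      HomologicalComplex.homologyMap (kosMap e.hom fs) i = 𝟙 _ := by
    rw [← HomologicalComplex.homologyMap_comp, ← kosMap_comp, e.inv_hom_id, kosMap_id,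
      HomologicalComplex.homologyMap_id]
  have h2 := congr($h1 x)
  rw [he, homologyMap_smul_id, ConcreteCategory.comp_apply] at h2
  exact h2.symm.trans (smul_homology_eq_zero M fs a (Ideal.subset_span ha) i _)

end

end Groth.Agent.KoszulCech
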