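import Groth.Agent.KoszulCech.Kos
import Mathlib.Algebra.Colimit.Module

/-!
# Direct limit Koszul cohomology: bottom degree, torsion modules, short exact sequences
-/

universe u

open CategoryTheory Limits

attribute [local instance] HasDerivedCategory.standard

namespace Groth.Agent.KoszulCech

noncomputable section

variable {A : Type u} [CommRing A]

local notation "K" => CohIII.koszulCx

/-- the lowest Koszul cohomology as elements of the module -/
def bot (M : ModuleCat.{u} A) : ∀ (fs : List A) (i : ℤ), i = -(fs.length : ℤ) →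
    ((K M fs).homology i →ₗ[A] M)
  | [], i, h => by
    have h0 : i = 0 := by simpa using h
    subst h0
    exact (HomologicalComplex.singleObjHomologySelfIso (ComplexShape.up ℤ) (0 : ℤ) M).toLinearEquiv.toLinearMap
  | f :: fs, i, h => (bot M fs (i + 1) (by simp at h ⊢; omega)) ∘ₗ δ M f fs i (i + 1) rfl

lemma bot_injective (M : ModuleCat.{u} A) : ∀ (fs : List A) (i : ℤ) (h : i = -(fs.length : ℤ)),
    Function.Injective (bot M fs i h)
  | [], i, h => by
    have h0 : i = 0 := by simpa using h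
    subst h0
    exact (HomologicalComplex.singleObjHomologySelfIso (ComplexShape.up ℤ) (0 : ℤ) M).toLinearEquiv.injective
  | f :: fs, i, h => by
    rw [injective_iff_map_eq_zero]
    intro x hx
    obtain ⟨y, rfl⟩ := (δ_eq_zero_iff i (i + 1) rfl x).mp
      ((injective_iff_map_eq_zero _).mp (bot_injective M fs (i + 1) (by simp at h ⊢; omega)) _ hx)
    have := subsingleton_homology M fs i (Or.inr (by simp at h; omega))
    rw [Subsingleton.elim y 0, map_zero]

lemma mem_range_bot (M : ModuleCat.{u} A) : ∀ (fs : List A) (i : ℤ) (h : i = -(fs.length : ℤ)) (x : M),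
    x ∈ LinearMap.range (bot M fs i h) ↔ ∀ f ∈ fs, f • x = 0
  | [], i, h, x => by
    have h0 : i = 0 := by simpa using h
    subst h0
    simp only [List.not_mem_nil, IsEmpty.forall_iff, implies_true, iff_true]
    exact LinearMap.range_eq_top.mpr
      (HomologicalComplex.singleObjHomologySelfIso (ComplexShape.up ℤ) (0 : ℤ) M).toLinearEquiv.surjective ▸ trivial
  | f :: fs, i, h, x => by
    have h' : i + 1 = -(fs.length : ℤ) := by simp at h; omega
    simp only [List.forall_mem_cons]
    rw [← mem_range_bot M fs (i + 1) h' x]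
    constructor
    · rintro ⟨y, rfl⟩
      refine ⟨?_, ⟨_, rfl⟩⟩
      change f • bot M fs (i + 1) h' (δ M f fs i (i + 1) rfl y) = 0
      rw [← map_smul, (smul_eq_zero_iff i (i + 1) rfl _).mpr ⟨y, rfl⟩, map_zero]
    · rintro ⟨hf, y, rfl⟩
      rw [← map_smul] at hf
      obtain ⟨z, rfl⟩ := (smul_eq_zero_iff i (i + 1) rfl y).mp
        ((injective_iff_map_eq_zero _).mp (bot_injective M fs (i + 1) h') _ hf)
      exact ⟨z, rfl⟩

lemma bot_tr (M : ModuleCat.{u} A) {n m : ℕ} (hnm : n ≤ m) : ∀ (fs : List A) (i : ℤ)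
    (hn : i = -((fs.map (· ^ n)).length : ℤ)) (hm : i = -((fs.map (· ^ m)).length : ℤ))
    (x : (K M (fs.map (· ^ n))).homology i),
    bot M _ i hm (tr M fs i n m hnm x) = bot M _ i hn x
  | [], i, hn, hm, x => by
    have : tr M [] i n m hnm x = x := by
      change (HomologicalComplex.homologyMap (𝟙 (K M ([] : List A))) i).hom x = x
      rw [HomologicalComplex.homologyMap_id]; rfl
    exact congrArg (bot M [] i hn) this
  | f :: fs, i, hn, hm, x =>
    (congrArg (bot M (fs.map (· ^ m)) (i + 1) (by simp at hm ⊢; omega)) (tr_δ i (i + 1) rfl hnm x)).trans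
      (bot_tr M hnm fs (i + 1) (by simp at hn ⊢; omega) _ _)

instance directedSystem (M : ModuleCat.{u} A) (fs : List A) (i : ℤ) :
    DirectedSystem (fun n : ℕ => ((K M (fs.map (· ^ n))).homology i : Type u))
      (fun _n _m h => tr M fs i _n _m h) where
  map_self n x := by
    change (HomologicalComplex.homologyMap (CohIII.koszulTrans M n n _ fs) i).hom x = x
    rw [koszulTrans_self, HomologicalComplex.homologyMap_id]; rfl
  map_map l m n h h' x := by
    change (HomologicalComplex.homologyMap (CohIII.koszulTrans M m l h' fs) i).hom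
      ((HomologicalComplex.homologyMap (CohIII.koszulTrans M n m h fs) i).hom x) = _
    rw [← LinearMap.comp_apply, ← ModuleCat.hom_comp, ← HomologicalComplex.homologyMap_comp,
      koszulTrans_comp]
    rfl

lemma tr_tr (M : ModuleCat.{u} A) (fs : List A) (i : ℤ) {n m l : ℕ} (h : n ≤ m) (h' : m ≤ l)
    (x : (K M (fs.map (· ^ n))).homology i) :
    tr M fs i m l h' (tr M fs i n m h x) = tr M fs i n l (h.trans h') x :=
  DirectedSystem.map_map' (f := fun n m h => tr M fs i n m h) h h' x

/-- the direct limit Koszul cohomology in complex degree `i` -/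
abbrev limH (fs : List A) (M : ModuleCat.{u} A) (i : ℤ) : Type u :=
  Module.DirectLimit (R := A) (ι := ℕ) (fun n : ℕ => ((K M (fs.map (· ^ n))).homology i : Type u))
    (fun n m h => tr M fs i n m h)

/-- the canonical map to the limit -/
abbrev toLim (fs : List A) (M : ModuleCat.{u} A) (i : ℤ) (n : ℕ) :
    (K M (fs.map (· ^ n))).homology i →ₗ[A] limH fs M i :=
  Module.DirectLimit.of A ℕ (fun n : ℕ => ((K M (fs.map (· ^ n))).homology i : Type u))
    (fun n m h => tr M fs i n m h) n

lemma toLim_tr (fs : List A) (M : ModuleCat.{u} A) (i : ℤ) {n m : ℕ} (h : n ≤ m)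
    (x : (K M (fs.map (· ^ n))).homology i) :
    toLim fs M i m (tr M fs i n m h x) = toLim fs M i n x :=
  Module.DirectLimit.of_f (f := fun n m h => tr M fs i n m h) (x := x)

/-- `koszulHLim` is `limH` -/
def hLimEquiv (fs : List A) (M : ModuleCat.{u} A) (p : ℕ) :
    CohIII.koszulHLim fs M p ≃ₗ[A] limH fs M ((p : ℤ) - fs.length) :=
  LinearEquiv.refl A _

/-- the submodule of elements killed by a power of each `f` in the list -/
def tors (fs : List A) (M : Type u) [AddCommGroup M] [Module A M] : Submodule A M where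
  carrier := {x | ∀ f ∈ fs, ∃ k : ℕ, f ^ k • x = 0}
  zero_mem' f _ := ⟨0, smul_zero _⟩
  add_mem' {x y} hx hy f hf := by
    obtain ⟨k, hk⟩ := hx f hf
    obtain ⟨l, hl⟩ := hy f hf
    refine ⟨k + l, ?_⟩
    have h1 : f ^ (k + l) • x = 0 := by rw [add_comm k, pow_add, mul_smul, hk, smul_zero]
    have h2 : f ^ (k + l) • y = 0 := by rw [pow_add, mul_smul, hl, smul_zero]
    rw [smul_add, h1, h2, add_zero]
  smul_mem' a x hx f hf := by
    obtain ⟨k, hk⟩ := hx f hf
    exact ⟨k, by rw [smul_comm, hk, smul_zero]⟩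

lemma exists_uniform_pow {M : Type u} [AddCommGroup M] [Module A M] (x : M) :
    ∀ fs : List A, (∀ f ∈ fs, ∃ k : ℕ, f ^ k • x = 0) → ∃ n : ℕ, ∀ f ∈ fs, f ^ n • x = 0
  | [], _ => ⟨0, by simp⟩
  | f :: fs, h => by
    obtain ⟨n, hn⟩ := exists_uniform_pow x fs fun g hg => h g (by simp [hg])
    obtain ⟨k, hk⟩ := h f (by simp)
    refine ⟨n + k, fun g hg => ?_⟩
    rcases List.mem_cons.mp hg with rfl | hg
    · rw [pow_add, mul_smul, hk, smul_zero]
    · rw [add_comm, pow_add, mul_smul, hn g hg, smul_zero]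

/-- lowest degree of the limit: the torsion submodule -/
theorem limH_bot (fs : List A) (M : ModuleCat.{u} A) (i : ℤ) (hi : i = -(fs.length : ℤ)) :
    Nonempty (limH fs M i ≃ₗ[A] tors fs M) := by
  have h : ∀ n : ℕ, i = -((fs.map (· ^ n)).length : ℤ) := fun n => by simp [hi]
  let L : limH fs M i →ₗ[A] M := Module.DirectLimit.lift A ℕ
    (fun n : ℕ => ((K M (fs.map (· ^ n))).homology i : Type u)) (fun n m h => tr M fs i n m h)
    (fun n => bot M _ i (h n)) (fun n m hnm x => bot_tr M hnm fs i (h n) (h m) x)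
  have hinj : Function.Injective L :=
    Module.DirectLimit.lift_injective _ _ fun n => bot_injective M _ i (h n)
  refine ⟨(LinearEquiv.ofInjective L hinj).trans (LinearEquiv.ofEq _ _ ?_)⟩
  ext x
  constructor
  · rintro ⟨z, rfl⟩
    obtain ⟨n, y, rfl⟩ := Module.DirectLimit.exists_of z
    intro f hf
    refine ⟨n, (mem_range_bot M _ i (h n) _).mp ⟨y, ?_⟩ (f ^ n) (List.mem_map_of_mem hf)⟩
    simp [L]
  · intro hx
    obtain ⟨n, hn⟩ := exists_uniform_pow x fs hx
    obtain ⟨y, rfl⟩ := (mem_range_bot M _ i (h n) x).mpr fun g hg => by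
      obtain ⟨f, hf, rfl⟩ := List.mem_map.mp hg
      exact hn f hf
    exact ⟨toLim fs M i n y, by simp [L]⟩

lemma smul_eq_zero_of_fst_snd {P Q : CochainComplex (ModuleCat.{u} A) ℤ} (φ : P ⟶ Q) (c : A) (i : ℤ)
    (x : (CochainComplex.mappingCone φ).X i)
    (h1 : c • (CochainComplex.mappingCone.fst φ).1.v i (i + 1) rfl x = 0)
    (h2 : c • (CochainComplex.mappingCone.snd φ).v i i (add_zero i) x = 0) : c • x = 0 := by
  have h1' : (CochainComplex.mappingCone.fst φ).1.v i (i + 1) rfl (c • x) = 0 :=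
    (map_smul _ _ _).trans h1
  have h2' : (CochainComplex.mappingCone.snd φ).v i i (add_zero i) (c • x) = 0 :=
    (map_smul _ _ _).trans h2
  rw [← cone_decomp φ i (i + 1) rfl (c • x), h1', h2', map_zero, map_zero, add_zero]

section Torsion

variable (M : ModuleCat.{u} A) {f : A}

lemma exists_pow_smul_X (hM : ∀ x : M, ∃ k : ℕ, f ^ k • x = 0) :
    ∀ (fs : List A) (i : ℤ) (x : (K M fs).X i), ∃ k : ℕ, f ^ k • x = 0
  | [], i, x => by
    by_cases h : i = 0
    · subst h
      obtain ⟨k, hk⟩ := hM ((HomologicalComplex.singleObjXSelf (ComplexShape.up ℤ) 0 M).toLinearEquiv x)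
      refine ⟨k, (HomologicalComplex.singleObjXSelf (ComplexShape.up ℤ) 0 M).toLinearEquiv.injective ?_⟩
      exact (map_smul _ _ _).trans (hk.trans (map_zero _).symm)
    · have := ModuleCat.subsingleton_of_isZero (isZero_X M [] i (by simp; omega))
      exact ⟨0, Subsingleton.elim _ _⟩
  | g :: fs, i, x => by
    obtain ⟨a, ha⟩ := exists_pow_smul_X hM fs (i + 1)
      ((CochainComplex.mappingCone.fst (g • 𝟙 (K M fs))).1.v i (i + 1) rfl x)
    obtain ⟨b, hb⟩ := exists_pow_smul_X hM fs i
      ((CochainComplex.mappingCone.snd (g • 𝟙 (K M fs))).v i i (add_zero i) x)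
    refine ⟨a + b, ?_⟩
    exact smul_eq_zero_of_fst_snd (g • 𝟙 (K M fs)) (f ^ (a + b)) i x
      (by rw [pow_add, mul_comm (f ^ a), mul_smul, ha, smul_zero]) (by rw [pow_add, mul_smul, hb, smul_zero])

lemma exists_pow_smul_homology (hM : ∀ x : M, ∃ k : ℕ, f ^ k • x = 0) (fs : List A) (i : ℤ)
    (x : (K M fs).homology i) : ∃ k : ℕ, f ^ k • x = 0 := by
  obtain ⟨z, rfl⟩ := (ModuleCat.epi_iff_surjective ((K M fs).homologyπ i)).mp inferInstance x
  obtain ⟨k, hk⟩ := exists_pow_smul_X M hM fs i ((K M fs).iCycles i z)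
  refine ⟨k, ?_⟩
  rw [← map_smul, (ModuleCat.mono_iff_injective ((K M fs).iCycles i)).mp inferInstance
    ((map_smul _ _ _).trans (hk.trans (map_zero _).symm)), map_zero]

theorem exists_tr_eq_zero : ∀ (fs : List A), (∀ g ∈ fs, ∀ x : M, ∃ k : ℕ, g ^ k • x = 0) →
    ∀ (i : ℤ), i ≠ -(fs.length : ℤ) → ∀ (n : ℕ) (x : (K M (fs.map (· ^ n))).homology i),
      ∃ (m : ℕ) (h : n ≤ m), tr M fs i n m h x = 0
  | [], _, i, hi, n, x => by
    refine ⟨n, le_rfl, ?_⟩
    have := subsingleton_homology M ([] : List A) i (by simp at hi ⊢; omega)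
    exact Subsingleton.elim (α := (K M ([] : List A)).homology i) _ _
  | g :: fs, hM, i, hi, n, x => by
    obtain ⟨m, hm, hδ⟩ := exists_tr_eq_zero fs (fun a ha => hM a (by simp [ha])) (i + 1)
      (by simp at hi ⊢; omega) n (δ M (g ^ n) (fs.map (· ^ n)) i (i + 1) rfl x)
    rw [← tr_δ i (i + 1) rfl hm] at hδ
    obtain ⟨y, hy⟩ := (δ_eq_zero_iff i (i + 1) rfl _).mp hδ
    obtain ⟨k, hk⟩ := exists_pow_smul_homology M (hM g (by simp)) (fs.map (· ^ m)) i y
    refine ⟨m + k, hm.trans (Nat.le_add_right m k), ?_⟩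
    rw [← tr_tr M (g :: fs) i hm (Nat.le_add_right m k) x, ← hy]
    refine (tr_ι i (Nat.le_add_right m k) y).trans ?_
    rw [← map_smul, Nat.add_sub_cancel_left, hk, map_zero, map_zero]

end Torsion

section SES

variable {S : ShortComplex (ModuleCat.{u} A)} (fs : List A)

/-- map on homology induced by a map of modules -/
def hMap {M N : ModuleCat.{u} A} (g : M ⟶ N) (fs : List A) (i : ℤ) :
    (K M fs).homology i →ₗ[A] (K N fs).homology i :=
  (HomologicalComplex.homologyMap (kosMap g fs) i).hom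

lemma hMap_tr {M N : ModuleCat.{u} A} (g : M ⟶ N) (i : ℤ) {n m : ℕ} (h : n ≤ m)
    (x : (K M (fs.map (· ^ n))).homology i) :
    hMap g _ i (tr M fs i n m h x) = tr N fs i n m h (hMap g _ i x) := by
  have := congrArg (fun φ => HomologicalComplex.homologyMap φ i) (kosTrans_naturality g h fs)
  simp only [HomologicalComplex.homologyMap_comp] at this
  exact congr($this.symm x)

/-- map on the limit induced by a map of modules -/
def limMap {M N : ModuleCat.{u} A} (g : M ⟶ N) (i : ℤ) : limH fs M i →ₗ[A] limH fs N i :=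
  Module.DirectLimit.map (fun n => hMap g _ i) fun n m h => LinearMap.ext fun x => hMap_tr fs g i h x

lemma limMap_toLim {M N : ModuleCat.{u} A} (g : M ⟶ N) (i : ℤ) (n : ℕ)
    (x : (K M (fs.map (· ^ n))).homology i) :
    limMap fs g i (toLim fs M i n x) = toLim fs N i n (hMap g _ i x) :=
  Module.DirectLimit.map_apply_of _ _ _

variable (hS : S.ShortExact)

include hS

/-- killing torsion does not change the limit -/
theorem limMap_bijective_of_torsion (hT : ∀ g ∈ fs, ∀ x : S.X₁, ∃ k : ℕ, g ^ k • x = 0)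
    (i : ℤ) (hi : i ≠ -(fs.length : ℤ)) (hi' : i + 1 ≠ -(fs.length : ℤ)) :
    Function.Bijective (limMap fs S.g i) := by
  constructor
  · rw [injective_iff_map_eq_zero]
    intro z hz
    obtain ⟨n, x, rfl⟩ := Module.DirectLimit.exists_of z
    rw [limMap_toLim] at hz
    obtain ⟨m, hm, hm0⟩ := Module.DirectLimit.of.zero_exact hz
    rw [← hMap_tr] at hm0
    obtain ⟨t, ht⟩ : ∃ t : (K S.X₁ (fs.map (· ^ m))).homology i,
        hMap S.f _ i t = tr S.X₂ fs i n m hm x :=
      (ShortComplex.moduleCat_exact_iff _).mp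
        ((kosSC_shortExact hS (fs.map (· ^ m))).homology_exact₂ i) _ hm0
    obtain ⟨l, hl, ht0⟩ := exists_tr_eq_zero S.X₁ fs hT i hi m t
    refine (toLim_tr fs S.X₂ i (hm.trans hl) x).symm.trans ?_
    rw [← tr_tr S.X₂ fs i hm hl x, ← ht]
    rw [← hMap_tr, ht0, map_zero, map_zero]
  · intro z
    obtain ⟨n, x, rfl⟩ := Module.DirectLimit.exists_of z
    have hn := kosSC_shortExact hS (fs.map (· ^ n))
    obtain ⟨m, hm, hd⟩ := exists_tr_eq_zero S.X₁ fs hT (i + 1) hi' n
      ((hn.δ i (i + 1) rfl).hom x)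
    have hnat := congr($(HomologicalComplex.HomologySequence.δ_naturality (kosSCTrans S fs hm) hn
      (kosSC_shortExact hS (fs.map (· ^ m))) i (i + 1) rfl) x)
    obtain ⟨y, hy⟩ := (ShortComplex.moduleCat_exact_iff _).mp
      ((kosSC_shortExact hS (fs.map (· ^ m))).homology_exact₃ i (i + 1) rfl)
      (tr S.X₃ fs i n m hm x) (hnat.symm.trans hd)
    refine ⟨toLim fs S.X₂ i m y, ?_⟩
    refine (limMap_toLim fs S.g i m y).trans ?_
    refine (congrArg (toLim fs S.X₃ i m) hy).trans ?_
    exact toLim_tr fs S.X₃ i hm x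

/-- connecting isomorphism when the middle term is acyclic at every stage -/
theorem limH_δ_equiv (i j : ℤ) (hij : i + 1 = j)
    (hP : ∀ (n : ℕ) (k : ℤ), Subsingleton ((K S.X₂ (fs.map (· ^ n))).homology k)) :
    Nonempty (limH fs S.X₃ i ≃ₗ[A] limH fs S.X₁ j) := by
  have hz : ∀ (n : ℕ) (k : ℤ), IsZero ((kosSC S (fs.map (· ^ n))).X₂.homology k) := fun n k => by
    have := hP n k
    exact ModuleCat.isZero_of_subsingleton ((K S.X₂ (fs.map (· ^ n))).homology k)
  refine ⟨Module.DirectLimit.congr (fun n => ((kosSC_shortExact hS (fs.map (· ^ n))).δIso i j hij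
    (hz n i) (hz n j)).toLinearEquiv) fun n m h => LinearMap.ext fun x => ?_⟩
  exact (congr($(HomologicalComplex.HomologySequence.δ_naturality (kosSCTrans S fs h)
    (kosSC_shortExact hS (fs.map (· ^ n))) (kosSC_shortExact hS (fs.map (· ^ m))) i j hij) x)).symm

end SES

end

end Groth.Agent.KoszulCech
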