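import Groth.Agent.KoszulCech.Extra
import Mathlib.RingTheory.MvPolynomial.MonomialOrder.DegLex
import Mathlib.RingTheory.MvPolynomial.Ideal
import Mathlib.RingTheory.MvPolynomial.Basic
import Mathlib.LinearAlgebra.FreeModule.Basic
import Mathlib.Algebra.Algebra.RestrictScalars

/-!
# Limit Koszul cohomology of a polynomial ring
-/

universe u

open CategoryTheory Limits MvPolynomial
open scoped Pointwise

attribute [local instance] HasDerivedCategory.standard

namespace Groth.Agent.KoszulCech

noncomputable section

variable (A : Type u) [CommRing A] (r : ℕ)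

local notation "S" => MvPolynomial (Fin (r + 1)) A

/-- the list of variables -/
abbrev vars : List S := List.ofFn (fun j : Fin (r + 1) => (X j : S))

lemma map_pow_vars (n : ℕ) : (vars A r).map (· ^ n) = List.ofFn (fun j : Fin (r + 1) => (X j : S) ^ n) := by
  simp [vars, List.map_ofFn, Function.comp_def]

lemma mem_span_pow_iff (n : ℕ) (s : Set (Fin (r + 1))) (p : S) :
    p ∈ Ideal.span ((fun j => (X j : S) ^ n) '' s) ↔ ∀ a ∈ p.support, ∃ j ∈ s, n ≤ a j := by
  have h : (fun j => (X j : S) ^ n) '' s =
      (fun a => monomial a (1 : A)) '' ((fun j => Finsupp.single j n) '' s) := by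
    rw [Set.image_image]
    simp [X_pow_eq_monomial]
  rw [h, mem_ideal_span_monomial_image]
  simp [Finsupp.single_le_iff]

theorem isWeaklyRegular_vars (n : ℕ) :
    RingTheory.Sequence.IsWeaklyRegular S ((vars A r).map (· ^ n)) := by
  rw [map_pow_vars, RingTheory.Sequence.isWeaklyRegular_iff]
  intro i hi
  rw [List.length_ofFn] at hi
  have hset : Ideal.ofList ((List.ofFn (fun j : Fin (r + 1) => (X j : S) ^ n)).take i) =
      Ideal.span ((fun j => (X j : S) ^ n) '' {j : Fin (r + 1) | (j : ℕ) < i}) := by
    refine congrArg Ideal.span (Set.ext fun x => ?_)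
    simp only [Set.mem_ofPred_eq, List.mem_take_iff_getElem, List.length_ofFn, List.getElem_ofFn,
      Set.mem_image]
    constructor
    · rintro ⟨j, hj, rfl⟩
      exact ⟨⟨j, by omega⟩, by simp; omega, rfl⟩
    · rintro ⟨j, hj, rfl⟩
      exact ⟨j, by have := j.2; omega, rfl⟩
  rw [isSMulRegular_quotient_iff_mem_of_smul_mem]
  intro p hp
  rw [hset, Ideal.smul_eq_mul, Ideal.mul_top] at hp ⊢
  rw [mem_span_pow_iff] at hp ⊢
  intro a ha
  rw [List.getElem_ofFn] at hp
  obtain ⟨j, hj, hle⟩ := hp (Finsupp.single ⟨i, hi⟩ n + a) (by
    rw [MvPolynomial.mem_support_iff, smul_eq_mul, X_pow_eq_monomial, coeff_monomial_mul, one_mul]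
    exact MvPolynomial.mem_support_iff.mp ha)
  refine ⟨j, hj, ?_⟩
  have hne : (⟨i, hi⟩ : Fin (r + 1)) ≠ j := fun e => by subst e; simp at hj
  simpa [Finsupp.single_apply, hne] using hle

lemma prod_vars : (vars A r).prod = monomial (Finsupp.equivFunOnFinite.symm fun _ => 1) (1 : A) := by
  rw [List.prod_ofFn, monomial_eq, map_one, one_mul, Finsupp.prod_fintype _ _ (fun _ => pow_zero _)]
  simp

/-- exponent vector `n - 1 - b` -/
def coexp (n : ℕ) (b : Fin (r + 1) → ℕ) : Fin (r + 1) →₀ ℕ :=
  Finsupp.equivFunOnFinite.symm fun j => n - 1 - b j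

/-- stage map to the free module on inverse monomials -/
def φ (n : ℕ) : S →ₗ[A] ((Fin (r + 1) → ℕ) →₀ A) :=
  (basisMonomials (Fin (r + 1)) A).constr A fun a =>
    if ∀ j, a j < n then Finsupp.single (fun j => n - 1 - a j) 1 else 0

lemma φ_monomial (n : ℕ) (a : Fin (r + 1) →₀ ℕ) (c : A) :
    φ A r n (monomial a c) = if ∀ j, a j < n then Finsupp.single (fun j => n - 1 - a j) c else 0 := by
  have h : monomial a c = c • (basisMonomials (Fin (r + 1)) A a) := by
    rw [coe_basisMonomials, smul_monomial, smul_eq_mul, mul_one]
  rw [h, map_smul, φ, Module.Basis.constr_basis]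
  split_ifs <;> simp

lemma φ_apply (n : ℕ) (p : S) (b : Fin (r + 1) → ℕ) :
    φ A r n p b = if ∀ j, b j < n then coeff (coexp r n b) p else 0 := by
  induction p using MvPolynomial.induction_on' with
  | monomial a c =>
    rw [φ_monomial, coeff_monomial]
    by_cases ha : ∀ j, a j < n
    · rw [if_pos ha, Finsupp.single_apply]
      by_cases hb : (fun j => n - 1 - a j) = b
      · subst hb
        rw [if_pos rfl, if_pos (fun j => by have := ha j; dsimp only; omega), if_pos]
        ext j
        have := ha j
        simp [coexp]
        omega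
      · rw [if_neg hb]
        split_ifs with h1 h2
        · exfalso
          apply hb
          funext j
          have := h1 j
          have := DFunLike.congr_fun h2 j
          simp [coexp] at this
          omega
        · rfl
        · rfl
    · rw [if_neg ha, Finsupp.zero_apply]
      split_ifs with h1 h2
      · exfalso
        apply ha
        intro j
        have := h1 j
        rw [h2]
        simp [coexp]
        omega
      · rfl
      · rfl
  | add p q hp hq =>
    rw [map_add, Finsupp.add_apply, hp, hq, coeff_add]
    split_ifs <;> simp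

lemma φ_eq_zero_iff (n : ℕ) (p : S) :
    φ A r n p = 0 ↔ p ∈ Ideal.ofList ((vars A r).map (· ^ n)) := by
  have hI : Ideal.ofList ((vars A r).map (· ^ n)) =
      Ideal.span ((fun j => (X j : S) ^ n) '' Set.univ) := by
    rw [map_pow_vars]
    refine congrArg Ideal.span (Set.ext fun x => ?_)
    simp only [Set.mem_ofPred_eq, List.mem_ofFn, Set.image_univ, Set.mem_range]
  rw [hI, mem_span_pow_iff]
  constructor
  · intro h a ha
    by_contra hc
    simp only [Set.mem_univ, true_and, not_exists, not_le] at hc
    have h1 := DFunLike.congr_fun h fun j => n - 1 - a j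
    rw [φ_apply, if_pos (fun j => by have := hc j; omega), Finsupp.zero_apply] at h1
    have : coexp r n (fun j => n - 1 - a j) = a := by
      ext j
      have := hc j
      simp [coexp]
      omega
    rw [this] at h1
    exact MvPolynomial.mem_support_iff.mp ha h1
  · intro h
    ext b
    rw [φ_apply, Finsupp.zero_apply]
    split_ifs with hb
    · by_contra hne
      obtain ⟨j, -, hj⟩ := h _ (MvPolynomial.mem_support_iff.mpr hne)
      have := hb j
      simp [coexp] at hj
      omega
    · rfl

lemma φ_prod_mul (n m : ℕ) (h : n ≤ m) (p : S) :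
    φ A r m ((vars A r).prod ^ (m - n) * p) = φ A r n p := by
  induction p using MvPolynomial.induction_on' with
  | monomial a c =>
    rw [prod_vars, monomial_pow, one_pow, monomial_mul, one_mul, φ_monomial, φ_monomial]
    have e : ∀ j, ((m - n) • (Finsupp.equivFunOnFinite.symm (fun _ : Fin (r + 1) => 1) : Fin (r + 1) →₀ ℕ) + a) j =
        m - n + a j := fun j => by simp
    simp only [e]
    by_cases ha : ∀ j, a j < n
    · rw [if_pos ha, if_pos (fun j => by have := ha j; omega)]
      congr 1
      funext j
      have := ha j
      omega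
    · rw [if_neg ha, if_neg]
      intro hc
      exact ha fun j => by have := hc j; omega
  | add p q hp hq => rw [mul_add, map_add, map_add, hp, hq]

/-- the module whose limit Koszul cohomology is computed -/
abbrev Smod : ModuleCat.{u} S := ModuleCat.of S S

/-- limit cohomology in the top degree as an `A`-module -/
abbrev Top : Type u := RestrictScalars A S (limH (vars A r) (Smod A r) 0)

/-- stage map into the limit -/
def stage (n : ℕ) : S →ₗ[A] Top A r where
  toFun p := (RestrictScalars.addEquiv A S _).symm (toLim (vars A r) (Smod A r) 0 n (topMap (Smod A r) _ p))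
  map_add' p q := by
    rw [map_add, map_add, map_add]
  map_smul' c p := by
    rw [RingHom.id_apply, RestrictScalars.smul_def, AddEquiv.apply_symm_apply, ← map_smul, ← map_smul,
      algebraMap_smul]

lemma stage_prod_mul (n m : ℕ) (h : n ≤ m) (p : S) :
    stage A r m ((vars A r).prod ^ (m - n) * p) = stage A r n p := by
  refine congrArg (RestrictScalars.addEquiv A S _).symm ?_
  refine Eq.trans ?_ (toLim_tr (vars A r) (Smod A r) 0 h _)
  refine congrArg _ ?_
  exact (tr_topMap (Smod A r) h (vars A r) p).symm

/-- generators of the limit -/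
def v (b : Fin (r + 1) → ℕ) : Top A r :=
  stage A r (Finset.univ.sup b + 1) (monomial (coexp r (Finset.univ.sup b + 1) b) 1)

lemma stage_eq (n : ℕ) (p : S) : stage A r n p = Finsupp.linearCombination A (v A r) (φ A r n p) := by
  induction p using MvPolynomial.induction_on' with
  | monomial a c =>
    rw [φ_monomial]
    split_ifs with ha
    · rw [Finsupp.linearCombination_single, v]
      set b : Fin (r + 1) → ℕ := fun j => n - 1 - a j
      set N := Finset.univ.sup b + 1
      rw [← map_smul, smul_monomial, smul_eq_mul, mul_one]
      have hbN : ∀ j, b j < N := fun j => Nat.lt_succ_of_le (Finset.le_sup (Finset.mem_univ j))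
      rw [← stage_prod_mul A r N (N + n) (Nat.le_add_right _ _),
        ← stage_prod_mul A r n (N + n) (Nat.le_add_left _ _)]
      rw [prod_vars, monomial_pow, one_pow, monomial_mul, one_mul, monomial_pow, one_pow, monomial_mul,
        one_mul]
      refine congrArg (fun e => stage A r (N + n) (monomial e c)) ?_
      ext j
      have := hbN j
      have := ha j
      simp [coexp, b] at *
      omega
    · rw [map_zero]
      refine (congrArg (RestrictScalars.addEquiv A S _).symm ?_).trans (map_zero _)
      have : topMap (Smod A r) ((vars A r).map (· ^ n)) (monomial a c) = 0 := by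
        rw [← LinearMap.mem_ker, ker_topMap, Ideal.smul_eq_mul, Ideal.mul_top, ← φ_eq_zero_iff,
          φ_monomial, if_neg ha]
      rw [this, map_zero]
  | add p q hp hq => rw [map_add, map_add, map_add, hp, hq]

lemma linearCombination_bijective : Function.Bijective (Finsupp.linearCombination A (v A r)) := by
  constructor
  · rw [injective_iff_map_eq_zero]
    intro h hh
    set n := h.support.sup (fun b => Finset.univ.sup b) + 1
    have hn : ∀ b ∈ h.support, ∀ j, b j < n := fun b hb j =>
      Nat.lt_succ_of_le ((Finset.le_sup (f := b) (Finset.mem_univ j)).trans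
        (Finset.le_sup (f := fun b : Fin (r + 1) → ℕ => Finset.univ.sup b) hb))
    set q : S := ∑ b ∈ h.support, monomial (coexp r n b) (h b)
    have hq : φ A r n q = h := by
      rw [map_sum]
      conv_rhs => rw [← Finsupp.sum_single h, Finsupp.sum]
      refine Finset.sum_congr rfl fun b hb => ?_
      rw [φ_monomial, if_pos (fun j => by have := hn b hb j; simp [coexp]; omega)]
      congr 1
      funext j
      have := hn b hb j
      simp [coexp]
      omega
    rw [← hq, ← stage_eq] at hh
    obtain ⟨m, hm, hm0⟩ := Module.DirectLimit.of.zero_exact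
      ((RestrictScalars.addEquiv A S _).symm.injective (hh.trans (map_zero _).symm))
    rw [tr_topMap, ← LinearMap.mem_ker, ker_topMap, Ideal.smul_eq_mul, Ideal.mul_top, smul_eq_mul,
      ← φ_eq_zero_iff, φ_prod_mul A r n m hm, hq] at hm0
    exact hm0
  · intro z
    obtain ⟨n, x, hx⟩ := Module.DirectLimit.exists_of (RestrictScalars.addEquiv A S _ z)
    obtain ⟨p, rfl⟩ := topMap_surjective _ _ x
    refine ⟨φ A r n p, (stage_eq A r n p).symm.trans ?_⟩
    exact (congrArg (RestrictScalars.addEquiv A S _).symm hx).trans (AddEquiv.symm_apply_apply _ z)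

theorem free_top : Module.Free A (Top A r) :=
  Module.Free.of_equiv (LinearEquiv.ofBijective _ (linearCombination_bijective A r))

theorem subsingleton_limH_vars (i : ℤ) (hi : i ≠ 0) : Subsingleton (limH (vars A r) (Smod A r) i) := by
  refine subsingleton_of_forall_eq 0 fun z => ?_
  obtain ⟨n, x, rfl⟩ := Module.DirectLimit.exists_of z
  have := subsingleton_of_isWeaklyRegular _ (Smod A r) (isWeaklyRegular_vars A r n) i hi
  rw [Subsingleton.elim x 0, map_zero]

end

end Groth.Agent.KoszulCech
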